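import Cfsg.Agent.Lib.EQ.Ind
import Cfsg.Agent.Lib.PLocal.KInfMain
import Cfsg.Agent.Lib.Comp.GenFitting

/-! The equivariant version of Glauberman's theorem on `K∞`. (The first two proofs follow `PLocal.KInfMain`.) -/

set_option autoImplicit false

namespace Cfsg.Lib.EQ
open Cfsg.Lib.PLocal Cfsg.Lib.Transfer Subgroup
open scoped Cfsg.Lib.Transfer commutatorElement

variable {G : Type*} [Group G] [Finite G] {p : ℕ} [hp : Fact p.Prime]

theorem exists_chief_of_not_cent {A B : Subgroup G} [A.Normal] (hAT : A ≤ pCore p G)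
    (hB : ¬ resClosure p B ≤ centralizer (A : Set G)) (h1 : ⁅⁅A, B⁆, B⁆ ≤ centralizer (A : Set G))
    (h2 : ⁅⁅A ⊓ centralizer (A : Set G), B⁆, B⁆ = ⊥) :
    ∃ U V : Subgroup G, IsChiefFactor U V ∧ U ≤ A ∧ ⁅⁅U, B⁆, B⁆ ≤ V ∧ ¬ ⁅U, B⁆ ≤ V := by
  obtain ⟨X, hXn, hXA, hX0, hX⟩ := exists_min_not_centralized ((Core.pCore_isPGroup p G).to_le hAT) hB
  by_cases hXC : X ≤ centralizer (A : Set G)
  · obtain ⟨Y, hY, -⟩ := Core.exists_isChiefFactor_ge hXn inferInstance (bot_lt_iff_ne_bot.mpr hX0)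
    refine ⟨X, Y, hY, hXA, le_trans ?_ bot_le, (hX Y hY.2.2.1 hY.1).2⟩
    rw [← h2]
    exact commutator_mono (commutator_mono (le_inf hXA hXC) le_rfl) le_rfl
  · obtain ⟨Y, hY, hle⟩ := Core.exists_isChiefFactor_ge (V := X ⊓ centralizer (A : Set G)) hXn
      inferInstance (lt_of_le_of_ne inf_le_left fun h => hXC (h ▸ inf_le_right))
    refine ⟨X, Y, hY, hXA, le_trans (le_inf ?_ ?_) hle, (hX Y hY.2.2.1 hY.1).2⟩
    · exact (commutator_mono (commutator_le_left X B) le_rfl).trans (commutator_le_left X B)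
    · exact (commutator_mono (commutator_mono hXA le_rfl) le_rfl).trans h1

theorem exists_chief_quadratic {S N : Subgroup G} [N.Normal] (hTS : pCore p G ≤ S) (hSN : S ≤ N)
    (hc : N ⊓ centralizer (pCore p G : Set G) ≤ pCore p G) (hK : ¬ (kLowIn S).Normal) :
    ∃ B ≤ S, ∃ U V : Subgroup G, IsChiefFactor U V ∧ U ≤ pCore p G ∧ ⁅⁅U, B⁆, B⁆ ≤ V ∧ ¬ ⁅U, B⁆ ≤ V := by
  have hT := Core.pCore_isPGroup p G
  obtain ⟨A, hAT, hAn, -, hA3, hA4⟩ := PGroup.exists_critical_of_subgroup hT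
  have hAn : A.Normal := Core.normal_of_top_le_normalizer ((le_normalizer_of_normal' inferInstance).trans hAn)
  rw [commutator_comm] at hA3
  have hA2 : ⁅A, A⁆ ≤ centralizer (A : Set G) := ((commutator_mono hAT le_rfl).trans hA3).trans inf_le_right
  have nc : ∀ B ≤ S, ¬ B ≤ pCore p G → ¬ resClosure p B ≤ centralizer (A : Set G) := fun B hBS hB h => by
    refine hB (le_pCore_of_resClosure_le (resClosure_le_iff.mpr fun g hg hco =>
      hc ⟨normalClosure_le_normal (hBS.trans hSN) hg, ?_⟩))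
    refine Coprime.le_centralizer_of_self_centralizing (A := zpowers g) hT.isNilpotent
      (le_normalizer_of_normal' inferInstance) ?_ hAT (zpowers_le_of_mem (resClosure_le_iff.mp h g hg hco)) hA4
      (mem_zpowers g)
    exact Coprime.coprime_card_of_isPGroup hT (by rwa [Nat.card_zpowers])
  have easy : ∀ B ≤ S, ¬ B ≤ pCore p G → ⁅⁅A, B⁆, B⁆ ≤ centralizer (A : Set G) →
      ⁅⁅A ⊓ centralizer (A : Set G), B⁆, B⁆ = ⊥ →
      ∃ B ≤ S, ∃ U V : Subgroup G, IsChiefFactor U V ∧ U ≤ pCore p G ∧ ⁅⁅U, B⁆, B⁆ ≤ V ∧ ¬ ⁅U, B⁆ ≤ V := by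
    intro B hBS hBT h1 h2
    obtain ⟨U, V, h3, h4, h5⟩ := exists_chief_of_not_cent hAT (nc B hBS hBT) h1 h2
    exact ⟨B, hBS, U, V, h3, h4.trans hAT, h5⟩
  by_cases hA : A ∈ kLowerStarFamily S
  swap
  · have : ¬ ∀ B ∈ classTwoSubgroups G, B ≤ S → A ≤ normalizer (B : Set G) → ⁅A, ⁅B, B⁆⁆ = ⊥ →
        ⁅⁅A ⊓ centralizer (A : Set G), B⁆, B⁆ = ⊥ → ⁅A, B⁆ ≤ A ⊓ centralizer (A : Set G) :=
      fun h => hA ⟨hA2, le_normalizer_of_normal' hAn, h⟩
    push Not at this
    obtain ⟨B, -, hBS, h1, h2, h3, h4⟩ := this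
    refine easy B hBS (fun h => h4 ?_) ?_ h3
    · rw [commutator_comm]
      exact (commutator_mono h le_rfl).trans hA3
    · rw [commutator_comm, commutator_eq_bot_iff_le_centralizer] at h2
      refine (commutator_mono ?_ le_rfl).trans h2
      rw [commutator_comm]
      exact Coprime.commutator_le_of_le_normalizer h1
  obtain ⟨B, hBS, hB, hBT⟩ := exists_lowerStar_not_le hTS (hAT.trans hTS) hA
    (by rw [commutator_comm]; exact hA3) (Or.inl hK)
  by_cases hZB : B ⊓ centralizer (B : Set G) ≤ pCore p G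
  swap
  · have hAZB : A ≤ normalizer ((B ⊓ centralizer (B : Set G) : Subgroup G) : Set G) :=
      Core.le_normalizer_inf hB.2.1 (Core.le_normalizer_centralizer hB.2.1)
    have h0 := quadratic_of_le_normalizer (isMulCommutative_inf_centralizer B) hAZB
    refine easy _ (inf_le_left.trans hBS) hZB (h0.le.trans bot_le) (eq_bot_iff.mpr ?_)
    rw [← h0]
    exact commutator_mono (commutator_mono inf_le_left le_rfl) le_rfl
  obtain ⟨X, hXn, hXA, hX0, hX⟩ := exists_min_not_centralized (hT.to_le hAT) (nc B hBS hBT)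
  obtain ⟨Y, hY, -⟩ := Core.exists_isChiefFactor_ge hXn inferInstance (bot_lt_iff_ne_bot.mpr hX0)
  exact ⟨B, hBS, X, Y, hY, hXA.trans hAT, commutator_commutator_le_of_lowerStar hA3 hAT hB hZB hY hXA
    (hX Y hY.2.2.1 hY.1).1, (hX Y hY.2.2.1 hY.1).2⟩

theorem kLowIn_normal (h5 : 5 ≤ p) {S N R : Subgroup G} [N.Normal] (hs : Group.IsSolvable R)
    (hc : (Nat.card R).Coprime p) (hc' : (Nat.card R).Coprime (Nat.card N)) (hTS : pCore p G ≤ S) (hSN : S ≤ N)
    (hC : N ⊓ centralizer (pCore p G : Set G) ≤ pCore p G) (h : ∀ x ∈ S, InAll p N R x) : (kLowIn S).Normal := by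
  by_contra hK
  obtain ⟨B, hBS, U, V, hUV, hU, h1, h2⟩ := exists_chief_quadratic hTS hSN hC hK
  have := hUV.2.2.1
  obtain ⟨g, hg, h3⟩ := exists_mem_not_commutator_le h2
  have hgB := zpowers_le_of_mem hg
  have d1 := card_map_dvd N (QuotientGroup.mk' V)
  have d2 := card_map_dvd R (QuotientGroup.mk' V)
  have := Subgroup.Normal.map ‹N.Normal› _ (QuotientGroup.mk'_surjective V)
  have h4 := mem_centralizer_of_inAll h5 (Core.isMinNormal_map_mk'_of_isChiefFactor hUV)
    (((Core.pCore_isPGroup p G).to_le hU).map _)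
    (Group.isSolvable_of_surjective ((QuotientGroup.mk' V).subgroupMap_surjective R)) (hc.coprime_dvd_left d2)
    ((hc'.coprime_dvd_left d2).coprime_dvd_right d1) (mem_map_of_mem _ (hSN (hBS hg)))
    ((h g (hBS hg)).map _ le_normalizer_of_normal hc' hs) (by
      rw [← MonoidHom.map_zpowers, ← map_commutator, ← map_commutator, Core.map_mk'_eq_bot_iff]
      exact (commutator_mono (commutator_mono le_rfl hgB) hgB).trans h1)
  refine h3 ?_
  rw [Core.commutator_le_iff_map_mk', MonoidHom.map_zpowers, commutator_comm, commutator_eq_bot_iff_le_centralizer]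
  exact zpowers_le_of_mem h4

lemma le_of_isPGroup_sup {N R Q : Subgroup G} (hn : R ≤ normalizer (N : Set G)) (hc : (Nat.card R).Coprime p)
    (hQ : IsPGroup p Q) (h : Q ≤ N ⊔ R) : Q ≤ N := by
  have h1 : N.relIndex (N ⊔ R) ∣ Nat.card R := by
    have := Coprime.card_sup_dvd hn
    rw [← card_mul_relIndex (le_sup_left : N ≤ N ⊔ R)] at this
    exact Nat.dvd_of_mul_dvd_mul_left Nat.card_pos this
  obtain ⟨g, hg, e⟩ := exists_conj_le_of_not_dvd_relIndex' (T := N)
    (fun e => (Nat.Prime.coprime_iff_not_dvd hp.out).1 hc.symm (e.trans h1)) hQ h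
  exact fun x hx => (mem_normalizer_iff.1 (sup_le le_normalizer hn hg) x).2 (conj_le_iff.1 e x hx)

/-- the equivariant theorem inside an ambient group. -/
theorem le_normalizer_kLowIn (h5 : 5 ≤ p) {S N R : Subgroup G} (hn : R ≤ normalizer (N : Set G))
    (hs : Group.IsSolvable R) (hc : (Nat.card R).Coprime p) (hc' : (Nat.card R).Coprime (Nat.card N))
    (hTS : pCoreOf p N ≤ S) (hSN : S ≤ N) (hC : N ⊓ centralizer (pCoreOf p N : Set G) ≤ pCoreOf p N)
    (h : ∀ x ∈ S, InAll p N R x) : N ≤ normalizer (kLowIn S : Set G) := by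
  have hN := sup_le le_normalizer hn
  have := normal_subgroupOf_of_le_normalizer hN
  have e : pCoreOf p (N ⊔ R) = pCoreOf p N :=
    le_antisymm (Core.le_pCoreOf (le_of_isPGroup_sup hn hc (Core.pCoreOf_isPGroup p _) (Core.pCoreOf_le p _))
      (le_sup_left.trans (Core.le_normalizer_pCoreOf p _)) (Core.pCoreOf_isPGroup p _))
      (Core.pCoreOf_le_of_le_normalizer le_sup_left hN)
  have eN : Nat.card (N.subgroupOf (N ⊔ R)) = Nat.card N := Nat.card_congr (subgroupOfEquivOfLe le_sup_left).toEquiv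
  have eR : Nat.card (R.subgroupOf (N ⊔ R)) = Nat.card R := Nat.card_congr (subgroupOfEquivOfLe le_sup_right).toEquiv
  have h1 := kLowIn_normal h5 (S := S.subgroupOf (N ⊔ R)) (N := N.subgroupOf (N ⊔ R)) (R := R.subgroupOf (N ⊔ R))
    (Group.isSolvable_of_isSolvable_injective (f := (subgroupOfEquivOfLe (le_sup_right : R ≤ N ⊔ R)).toMonoidHom)
      (subgroupOfEquivOfLe _).injective) (eR ▸ hc) (eR ▸ eN ▸ hc') (map_le_iff_le_comap.1 (e.le.trans hTS))
    (comap_mono hSN) (fun x hx => by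
      have : (x : G) ∈ pCoreOf p (N ⊔ R) := e.ge (hC ⟨hx.1, fun y hy => by
        obtain ⟨z, hz, rfl⟩ := e.ge hy
        exact congrArg Subtype.val (hx.2 z hz)⟩)
      obtain ⟨z, hz, e'⟩ := this
      exact Subtype.ext e' ▸ hz) fun x hx => (h x hx).subgroupOf le_sup_right x.2
  have h2 := (map_mono (f := (N ⊔ R).subtype) (le_normalizer_of_normal (H := kLowIn (S.subgroupOf (N ⊔ R))) (K := ⊤))).trans
    (le_normalizer_map _)
  rw [map_kLowIn (subtype_injective _), map_subgroupOf_eq_of_le (hSN.trans le_sup_left), Core.map_subtype_top] at h2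
  exact le_sup_left.trans h2

end Cfsg.Lib.EQ
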