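import Cfsg.Agent.Lib.EQ.Opp

/-! A root centralising an opposite pair and its unipotent radical lies in another component. -/

set_option autoImplicit false
set_option linter.unusedSimpArgs false

namespace Cfsg.Lib.EQ
open Cfsg.Lib.QuadPair Cfsg.Lib.Transfer Cfsg.Lib.Root Module LinearMap Polynomial
open scoped Cfsg.Lib.Transfer commutatorElement MatrixGroups

variable {k : Type*} [Field k] {M : Type*} [AddCommGroup M] [Module k M]
variable {G H D : Subgroup (End k M)ˣ} {α β α' β' χ υ δ ρ ρ' ξ η x y : End k M} {g u v : (End k M)ˣ}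
variable {p : ℕ} [hp : Fact p.Prime]

variable (G) in
/-- the group generated by all root groups. -/
abbrev RT : Subgroup (End k M)ˣ := ⨆ A ∈ quadraticRootSubgroups G, A

variable (G) in
/-- the group generated by the component of a root. -/
abbrev CG (χ : End k M) : Subgroup (End k M)ˣ := ⨆ A ∈ comp (quadraticRootSubgroups G) (RG G χ), A

/-- the Weyl element. -/
def wy (ht : Trip α β) : (End k M)ˣ := repK ht (mk2 0 1 (-1) 0 (by simp))

lemma wy_val (ht : Trip α β) : (wy ht : End k M) = 1 - (α * β + β * α) + α - β := by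
  refine (repSL_val ht _ _ _ _).trans ?_
  simp [sub_eq_add_neg]

lemma wy_inv (ht : Trip α β) : (((wy ht)⁻¹ : (End k M)ˣ) : End k M) = 1 - (α * β + β * α) - α + β := by
  rw [wy, ← map_inv]
  refine (repSL_val ht _ _ _ _).trans ?_
  simp [sub_eq_add_neg]

lemma cj_wy (ht : Trip α β) (hη : η ∈ RS G β) : cj (wy ht) η = -(α * η * α) := by
  have h1 : ((wy ht : End k M) - α) * η = 0 := RS_left hη (by
    rw [wy_val, sub_mul, sub_mul, add_mul, sub_mul, add_comm (α * β), ht.symm.gam_left, ht.bb]; simp)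
  have h2 : η * ((((wy ht)⁻¹ : (End k M)ˣ) : End k M) + α) = 0 := RS_right hη (by
    rw [wy_inv, mul_add, mul_add, mul_sub, mul_sub, add_comm (α * β), ht.symm.gam_right, ht.bb]; simp)
  rw [sub_mul, sub_eq_zero] at h1
  rw [mul_add, add_eq_zero_iff_eq_neg] at h2
  rw [cj, h1, mul_assoc, h2, mul_neg, mul_assoc]

lemma cj_repK (ht : Trip α β) (h1 : y * α = α * y) (h2 : y * β = β * y) (g : SL(2, k)) : cj (repK ht g) y = y := by
  have h := z0_of_comm h1 h2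
  rw [cj_eq_iff, show (repK ht g : End k M) = _ from repSL_val ht _ _ _ _]
  simp only [← Algebra.smul_def, add_mul, mul_add, sub_mul, mul_sub, smul_mul_assoc, mul_smul_comm, h.a, h.b, h1, h2,
    one_mul, mul_one]

lemma Z0.add (h : Z0 α β x) (h' : Z0 α β y) : Z0 α β (x + y) :=
  ⟨by rw [add_mul, mul_add, h.a, h'.a], by rw [add_mul, mul_add, h.b, h'.b]⟩

lemma z0_wy (ht : Trip α β) (h1 : Z0 χ υ α) (h2 : Z0 χ υ β) : Z0 χ υ (wy ht) := by
  rw [wy_val]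
  exact ((z0_one.sub ((h1.mul h2).add (h2.mul h1))).add h1).sub h2

lemma range_trip (ht : Trip α β) : range (α * β) = range α :=
  le_antisymm (range_mul_le _ _) (by conv_lhs => rw [← ht.aba]
                                     exact range_mul_le _ _)

lemma ker_trip (ht : Trip α β) : ker (β * α) = ker α :=
  le_antisymm (by conv_rhs => rw [← ht.aba, mul_assoc]
                  exact ker_le_mul _ _) (ker_le_mul _ _)

lemma Z0.norm_UU (ht : Trip α β) (h : Z0 α β g) (hu : u ∈ UU α) : g * u * g⁻¹ ∈ UU α := by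
  refine EQ.norm_UU ?_ ?_ hu
  · rw [← range_trip (Trip.cj ht g), ← cj_mul, cj_eq_iff.2 h.a, range_trip ht]
  · rw [← ker_trip (Trip.cj ht g), ← cj_mul, cj_eq_iff.2 h.b, ker_trip ht]

lemma comm_cj (h1 : cj u y = y) (h2 : y * x = x * y) : y * cj u x = cj u x * y := by
  rw [← h1, ← cj_mul, ← cj_mul, h2]

lemma cj_inv_eq (h : cj u y = y) : cj u⁻¹ y = y := by conv_lhs => rw [← h, cj_inv_cj]

lemma cj_un_iff (h : α * α = 0) : cj (un h) y = y ↔ y * α = α * y := by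
  rw [cj_eq_iff, un_val, add_mul, mul_add, one_mul, mul_one, add_right_inj, eq_comm]

lemma cj_neg (g : (End k M)ˣ) (y : End k M) : cj g (-y) = -cj g y := by simp [cj]

lemma cj_mem_of_norm (h : g ∈ Subgroup.normalizer (RG G χ : Set (End k M)ˣ)) (hξ : ξ ∈ RS G χ) : cj g ξ ∈ RS G χ := by
  have := (Subgroup.mem_normalizer_iff.1 h _).1 (un_mem_RG hξ)
  rwa [mem_RG, ← cj_sub_one, un_val, add_sub_cancel_left] at this

lemma pos_mul_right' (ht : Trip α β) (h : Pos α β x) (h1 : y * α = α * y) : Pos α β (x * y) := by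
  refine ⟨by rw [← mul_assoc, h.l, zero_mul], by rw [mul_assoc, h1, ← mul_assoc, h.r, zero_mul], ?_⟩
  have e1 : α * (1 - (α * β + β * α)) = 0 := by rw [mul_sub, ht.gam_right]; simp
  have e : x * y * (1 - (α * β + β * α)) = x * (1 - (α * β + β * α)) * y * (1 - (α * β + β * α)) := by
    rw [mul_sub x, mul_add x, ← mul_assoc x α, h.r, sub_mul, sub_mul, add_mul, add_mul, mul_assoc x (β * α), mul_assoc β,
      ← h1, mul_assoc x (β * _), mul_assoc β, mul_assoc y, e1]; simp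
  rw [mul_assoc, e, ← mul_assoc, ← mul_assoc, ← mul_assoc, h.m]; simp

lemma pos_mul_left' (ht : Trip α β) (h : Pos α β x) (h1 : y * α = α * y) : Pos α β (y * x) := by
  refine ⟨by rw [← mul_assoc, ← h1, mul_assoc, h.l, mul_zero], by rw [mul_assoc, h.r, mul_zero], ?_⟩
  have e1 : (1 - (α * β + β * α)) * α = 0 := by rw [sub_mul, ht.gam_left]; simp
  have e : (1 - (α * β + β * α)) * (y * x) = (1 - (α * β + β * α)) * (y * ((1 - (α * β + β * α)) * x)) := by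
    rw [sub_mul 1 _ x, add_mul _ _ x, mul_assoc β, h.l, mul_sub y, mul_sub, mul_add y, mul_add, mul_assoc α β x,
      ← mul_assoc y α, h1, mul_assoc α y, ← mul_assoc _ α, e1]; simp
  rw [e, mul_assoc, mul_assoc, h.m]; simp

lemma pos_neg (h : Pos α β x) : Pos α β (-x) := ⟨by simp [h.l], by simp [h.r], by rw [mul_neg, neg_mul, h.m, neg_zero]⟩

lemma gr_pow (ht : Trip α β) (s : kˣ) (n : ℕ) : gr ht s ^ n = gr ht (s ^ n) := by
  rw [gr, gr, ← map_pow]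
  congr 1
  induction n with
  | zero => apply ext2 <;> simp
  | succ n ih => rw [pow_succ, ih]; apply ext2 <;> simp [mul_ap, pow_succ, mul_comm]

lemma coprime_gr [Finite k] [CharP k p] (ht : Trip α β) (s : kˣ) : (orderOf (gr ht s)).Coprime p := by
  have := Fintype.ofFinite k
  obtain ⟨n, -, hn⟩ := FiniteField.card k p
  refine Nat.Coprime.coprime_dvd_left (orderOf_dvd_of_pow_eq_one (n := p ^ (n : ℕ) - 1) ?_) ?_
  · rw [gr_pow, ← hn, ← Nat.card_eq_fintype_card, ← Nat.card_units, pow_card_eq_one', gr]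
    rw [show dR (1 : kˣ) = 1 by apply ext2 <;> simp, map_one]
  · refine (Nat.coprime_pow_right_iff n.pos _ _).1 ?_
    exact (Nat.coprime_self_sub_left (Nat.one_le_pow _ _ hp.out.pos)).2 (by simp)

omit hp

variable (G) in
/-- roots centralising `χ`, `υ` and the unipotent radical of `χ` in its component. -/
structure PC (χ υ ρ : End k M) : Prop where
  qd : Qd G ρ
  a : ρ * χ = χ * ρ
  b : ρ * υ = υ * ρ
  c : ∀ u ∈ CG G χ, u ∈ UU χ → cj u ρ = ρ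

variable [FiniteDimensional k M]

lemma norm_of_cj_mem (hχ : Qd G χ) (hg : g ∈ G) (h : cj g χ ∈ RS G χ) :
    g ∈ Subgroup.normalizer (RG G χ : Set (End k M)ˣ) := by
  rw [← conj_eq_self_iff, conj_RG hg, hχ.RG_eq h (cj_eq_zero.not.2 hχ.ne)]

lemma RG_le_CG (hχ : Qd G χ) : RG G χ ≤ CG G χ := le_iSup_mem (comp_self hχ.root)
lemma RG_le_RT (hχ : Qd G χ) : RG G χ ≤ RT G := le_iSup_mem hχ.root
lemma RT_le : RT G ≤ G := iSup₂_le fun _ => roots_le
lemma CG_le : CG G χ ≤ G := comp_le.trans RT_le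

variable (hk : Big k) (hI : HypI G)
include hk hI

lemma opp_mem_comp (hχ : Qd G χ) (hυ : Qd G υ) (h : χ * υ * χ ≠ 0) : RG G υ ∈ comp (quadraticRootSubgroups G) (RG G χ) :=
  comp_r1 (comp_self hχ.root) hυ.root ((r1_iff_opp hk hI hχ hυ).2 h)

lemma CG_eq (hχ : Qd G χ) (hυ : Qd G υ) (ht : Trip χ υ) : CG G υ = CG G χ := by
  rw [CG, comp_eq (opp_mem_comp hk hI hχ hυ (ht.aba.symm ▸ hχ.ne))]

lemma CG_conj (hg : g ∈ RT G) (hu : u ∈ CG G χ) : g * u * g⁻¹ ∈ CG G χ :=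
  iSup_conj_mem (fun _ hA => (lrs_roots hk hI).comp_conj hA hg) hu

variable (hχ : Qd G χ) (hυ : Qd G υ) (ht : Trip χ υ)
include hχ hυ ht

lemma PC.symm (h : PC G χ υ ρ) : PC G υ χ ρ := by
  refine ⟨h.qd, h.b, h.a, fun u h1 h2 => ?_⟩
  rw [CG_eq hk hI hχ hυ ht] at h1
  have h3 := UU_conj h2 (wy ht)
  rw [cj_wy ht hυ.toQ0.mem_RS, ht.aba, UU_congr (range_neg _) (ker_neg _)] at h3
  have h4 := h.c _ (CG_conj hk hI (sup_le (RG_le_RT hχ) (RG_le_RT hυ)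
    (repK_mem ht hχ.toQ0.mem_RS hυ.toQ0.mem_RS _)) h1) h3
  have h5 : cj (wy ht) ρ = ρ := cj_repK ht h.a h.b _
  change cj (wy ht * u * (wy ht)⁻¹) ρ = ρ at h4
  rw [← cj_cj, ← cj_cj, cj_inv_eq h5] at h4
  rw [← cj_inv_cj (wy ht) (cj u ρ), h4, cj_inv_eq h5]

omit hI in
lemma PC.of_mem (h : PC G χ υ ρ) (hξ : ξ ∈ RS G ρ) (h0 : ξ ≠ 0) : PC G χ υ ξ := by
  obtain ⟨a, ha0, ha⟩ := hk.ex
  have hs : ((Units.mk0 a ha0 : kˣ) : k) ^ 2 ≠ 1 := ha
  have h1 : ∀ ξ ∈ RS G ρ, ξ * χ = χ * ξ := fun ξ hξ => cm_RG_iff.1 (cm_of_comm hk h.qd hχ h.a) ξ hξ χ hχ.toQ0.mem_RS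
  have h2 : ∀ ξ ∈ RS G ρ, ξ * υ = υ * ξ := fun ξ hξ => cm_RG_iff.1 (cm_of_comm hk h.qd hυ h.b) ξ hξ υ hυ.toQ0.mem_RS
  have h3 : ∀ g ∈ RG G ρ, Z0 χ υ (g : End k M) := fun g hg => by
    simpa using z0_one.add (z0_of_comm (h1 _ hg) (h2 _ hg))
  refine ⟨h.qd.of_mem hξ h0, h1 ξ hξ, h2 ξ hξ, fun u hu hu' => ?_⟩
  have h4 := un_mem_RG hξ
  have h5 := (Subgroup.mem_normalizer_iff.1 (norm_of_cj_mem h.qd (CG_le hu)
    ((h.c u hu hu').symm ▸ h.qd.toQ0.mem_RS)) _).1 h4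
  have h6 := cent_UU hs ht (mul_mem hu' ((h3 _ h4).norm_UU ht (inv_mem hu'))) ((z0_unit_iff hs ht).1 (by
    have := h3 _ (mul_mem h5 (inv_mem h4))
    simpa only [mul_assoc] using this))
  have h7 : u * un hξ.1.sq * u⁻¹ = un hξ.1.sq := by
    rw [← mul_inv_eq_one, ← h6]; simp only [mul_assoc]
  have := cj_sub_one u (un hξ.1.sq)
  rwa [h7, un_val, add_sub_cancel_left] at this

omit hυ in
lemma PC.partner (h : PC G χ υ ρ) (hρ' : Qd G ρ') (hl : Trip ρ ρ') (hz : Z0 χ υ ρ') : PC G χ υ ρ' := by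
  have hw := z0_wy hl (z0_of_comm h.a h.b) hz
  have hc : ∀ u ∈ CG G χ, u ∈ UU χ → cj u ρ' = ρ' := fun u h1 h2 => by
    have h4 := h.c _ (CG_conj hk hI (sup_le (RG_le_RT h.qd) (RG_le_RT hρ')
      (repK_mem hl h.qd.toQ0.mem_RS hρ'.toQ0.mem_RS _)) h1) (hw.norm_UU ht h2)
    have h5 := cj_wy hl hρ'.toQ0.mem_RS
    rw [hl.aba, eq_neg_iff_add_eq_zero, add_eq_zero_iff_eq_neg', eq_comm, neg_eq_iff_eq_neg] at h5
    change cj (wy hl * u * (wy hl)⁻¹) ρ = ρ at h4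
    rw [← neg_inj, ← cj_neg, ← h5, cj_cj, inv_mul_cancel_right, ← cj_cj] at h4
    rw [← cj_inv_cj (wy hl) (cj u ρ'), h4, cj_inv_cj]
  have ha := (cj_un_iff hχ.sq).1 (hc _ (RG_le_CG hχ (un_mem_RG hχ.toQ0.mem_RS))
    (RG_le_UU hχ.sq (un_mem_RG hχ.toQ0.mem_RS)))
  exact ⟨hρ', ha, hz.comm ht ha, hc⟩

variable [Finite (End k M)ˣ]

lemma PC.cent (h : PC G χ υ ρ) (h' : PC G χ υ ρ') (hl : Trip ρ ρ') (hv : v ∈ RT G) (hv' : v ∈ UU ρ) : cj v χ = χ := by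
  have p1 := (pos_iff hl).1 hv'
  have p2 := (pos_iff hl).1 (inv_mem hv')
  have p3 : Pos ρ ρ' (cj v χ - χ) := by
    have := pos_add (pos_add (pos_mul_right p1 h.a.symm h'.a.symm) (pos_mul_left p2 h.a.symm h'.a.symm))
      (pos_mul (pos_mul_right p1 h.a.symm h'.a.symm) p2)
    convert this using 1
    rw [cj]; noncomm_ring
  have hδ := hχ.conj (RT_le hv)
  have h1 : υ * cj v χ * υ ≠ 0 := fun e => hυ.ne (pos_eq_zero hl (by
    have := pos_neg (pos_mul_right (pos_mul_left p3 h.b.symm h'.b.symm) h.b.symm h'.b.symm)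
    rwa [mul_sub, sub_mul, e, ht.bab, zero_sub, neg_neg] at this) (z0_of_comm h.b.symm h'.b.symm))
  obtain ⟨u, h2, h3, χ', h4, e⟩ := exists_opp_conj hk ht hχ hυ hδ h1 (CG_le (χ := χ)) (RG_le_CG hχ)
    (CG_eq hk hI hχ hυ ht ▸ RG_le_CG hυ) (by
      rw [← conj_RG (RT_le hv)]
      exact le_iSup_mem ((lrs_roots hk hI).comp_conj (comp_self hχ.root) hv))
  have key : ∀ {ρ}, PC G χ υ ρ → cj u χ' * ρ = ρ * cj u χ' := fun {ρ} h =>
    (comm_cj ((h.symm hk hI hχ hυ ht).c u (CG_eq hk hI hχ hυ ht ▸ h2) h3)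
      (cm_RG_iff.1 (cm_of_comm hk h.qd hχ h.a) ρ h.qd.toQ0.mem_RS χ' h4)).symm
  exact sub_eq_zero.1 (pos_eq_zero hl p3 ((e ▸ z0_of_comm (key h) (key h')).sub (z0_of_comm h.a.symm h'.a.symm)))

variable [Finite k] [CharP k p] (h3 : 3 ≤ p)
include hp h3

omit hυ in
lemma exists_partner_gr (hq : Q0 G υ) (hα : Qd G α) {s : kˣ} (hs : (s : k) ^ 2 ≠ 1) (h : cj (gr ht s) α ∈ RS G α) :
    ∃ β, Qd G β ∧ Trip α β ∧ Z0 α β (gr ht s) ∧ Z0 χ υ (α * β) ∧ Z0 χ υ (β * α) := by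
  have hg := repK_mem_G ht hχ.toQ0 hq (dR s)
  obtain ⟨β, h1, h2, h4⟩ := exists_fixed_partner h3 hk hI hα (D := Subgroup.zpowers (gr ht s)) (Subgroup.zpowers_le.2 hg)
    (by rw [Nat.card_zpowers]; exact coprime_gr ht s) fun d hd =>
      cj_mem_of_norm (Subgroup.zpowers_le.2 (norm_of_cj_mem hα hg h) hd) hα.toQ0.mem_RS
  have := h4 _ (Subgroup.mem_zpowers _)
  exact ⟨β, h1, h2, this, (z0_iff hs ht).2 (cj_eq_iff.2 this.a), (z0_iff hs ht).2 (cj_eq_iff.2 this.b)⟩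

lemma PC.step (h : PC G χ υ ρ) (hρ' : Qd G ρ') (h0 : ρ * ρ' * ρ ≠ 0) : PC G χ υ ρ' := by
  obtain ⟨a, ha0, ha⟩ := hk.ex
  have hs : ((Units.mk0 a ha0 : kˣ) : k) ^ 2 ≠ 1 := ha
  have e0 := (z0_iff hs ht).1 (z0_of_comm h.a h.b)
  obtain ⟨β, b1, b2, b3, -⟩ := exists_partner_gr hk hI hχ ht h3 hυ.toQ0 h.qd hs (e0.symm ▸ h.qd.toQ0.mem_RS)
  have hβ := h.partner hk hI hχ ht b1 b2 ((z0_iff hs ht).2 (by
    simpa using partner_smul b2 b3 one_ne_zero (by simpa using e0)))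
  obtain ⟨β', c1, c2, c3⟩ := exists_trip hk h.qd hρ' h0
  have hβ' := hρ'.of_mem c1 c2
  obtain ⟨v, d1, d2, d3, d4⟩ := exists_trans hs b2 c3 rfl rfl (H := RT G)
    (sup_le (RG_le_RT h.qd) (RG_le_RT b1) (gr_mem _ _ h.qd.toQ0.mem_RS b1.toQ0.mem_RS))
    (sup_le (RG_le_RT h.qd) (RG_le_RT hβ') (gr_mem _ _ h.qd.toQ0.mem_RS hβ'.toQ0.mem_RS))
  have d5 := Trip.cj b2 v
  rw [cj_mul, cj_UU d2] at d3 d4
  rw [cj_UU d2] at d5
  have e := partner_eq d5 c3 d3 d4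
  have e1 := h.cent hk hI hχ hυ ht hβ b2 d1 d2
  have e2 := (h.symm hk hI hχ hυ ht).cent hk hI hυ hχ ht.symm (hβ.symm hk hI hχ hυ ht) b2 d1 d2
  exact (h.partner hk hI hχ ht hβ' c3 (e ▸ z0_of_comm (comm_cj e1 hβ.a.symm).symm (comm_cj e2 hβ.b.symm).symm)).of_mem
    hk hχ hυ ht (hρ'.mem_symm c1 c2) hρ'.ne

theorem PC.not_mem_comp (h : PC G χ υ ρ) : RG G χ ∉ comp (quadraticRootSubgroups G) (RG G ρ) := by
  have key : ∀ B, Relation.ReflTransGen (FAdj (quadraticRootSubgroups G)) (RG G ρ) B → ∃ σ, PC G χ υ σ ∧ B = RG G σ := by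
    intro B hB
    induction hB with
    | refl => exact ⟨ρ, h, rfl⟩
    | tail _ h2 ih =>
      obtain ⟨σ, h4, rfl⟩ := ih
      obtain ⟨σ', h5, rfl⟩ := mem_roots_iff.1 h2.2.1
      exact ⟨σ', h4.step hk hI hχ hυ ht h3 h5 ((r1_iff_opp hk hI h4.qd h5).1 h2.2.2), rfl⟩
  intro hm
  obtain ⟨σ, h4, e⟩ := key _ hm.2
  have h5 : σ ∈ RS G χ := by
    have := mem_RG.1 (e ▸ un_mem_RG h4.qd.toQ0.mem_RS)
    rwa [un_val, add_sub_cancel_left] at this
  refine opp_all hk hχ hυ (ht.aba.symm ▸ hχ.ne) h5 hυ.toQ0.mem_RS h4.qd.ne hυ.ne ?_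
  rw [h4.b, mul_assoc, h4.qd.sq, mul_zero]

end Cfsg.Lib.EQ
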