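import Cfsg.Agent.Lib.EQ.Fix
import Cfsg.Agent.Lib.Core.Subnormal

/-! Invariant opposite pairs, and the construction of an invariant quadratic element in non-nilpotent position. -/

set_option autoImplicit false
set_option linter.unusedSimpArgs false

namespace Cfsg.Lib.EQ
open Cfsg.Lib.QuadPair Cfsg.Lib.Transfer Cfsg.Lib.Root Module LinearMap Polynomial
open scoped Cfsg.Lib.Transfer commutatorElement MatrixGroups

variable {k : Type*} [Field k] {M : Type*} [AddCommGroup M] [Module k M]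
variable {G H D S T R N : Subgroup (End k M)ˣ} {α β α' β' χ υ δ ρ ρ' ξ η x y l l' : End k M} {g u v : (End k M)ˣ}
variable {p : ℕ} [hp : Fact p.Prime]

lemma pos_nil (h : Pos α β x) : IsNilpotent x := by
  refine ⟨3, ?_⟩
  have e : ∀ y, x * (x * y) = x * ((1 - (α * β + β * α)) * (x * y)) := fun y => by
    simp only [mul_sub, sub_mul, add_mul, mul_add, mul_assoc, one_mul, ← mul_assoc α x, ← mul_assoc x α, h.l, h.r]
    simp
  have e2 : x * x = x * ((1 - (α * β + β * α)) * x) := by simpa using e 1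
  rw [pow_three, e, e2, ← mul_assoc x, ← mul_assoc x, ← mul_assoc, ← mul_assoc, mul_assoc x, mul_assoc x, h.m]; simp

omit hp

variable [FiniteDimensional k M] (hk : Big k)
include hk

lemma q0_comm (h : Q0 G α) (h' : Q0 G β) (h0 : β * α * β = 0) : Q0 G (β * α - α * β) := by
  have a1 : ∀ x, α * (α * x) = 0 := fun x => by rw [← mul_assoc, h.sq, zero_mul]
  have a2 : ∀ x, β * (β * x) = 0 := fun x => by rw [← mul_assoc, h'.sq, zero_mul]
  have a3 : ∀ x, β * (α * (β * x)) = 0 := fun x => by rw [← mul_assoc, ← mul_assoc, h0, zero_mul]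
  have a4 : β * (α * β) = 0 := by rw [← mul_assoc, h0]
  refine ⟨by simp only [mul_sub, sub_mul, mul_assoc, a1, a2, a3, a4, mul_zero, sub_self], fun c => ?_⟩
  have h1 := (h.conj (h'.smul c).un_mem).mem 1
  rw [cj_of_eq (α := c • β) (by simp) (h'.smul c).sq] at h1
  convert mul_mem (mul_mem h1 (h.mem (-1))) ((RS_q0 (mem_top hk h h')).mem (-c)) using 1
  simp only [one_smul, neg_smul, smul_mul_assoc, mul_smul_comm, mul_add, add_mul, mul_sub, sub_mul, mul_neg, neg_mul,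
    mul_one, one_mul, mul_assoc, a1, a2, a3, a4, h.sq, mul_zero, zero_mul, smul_zero, smul_sub, add_zero, sub_zero, neg_zero]
  abel

lemma exists_root_mem (h : Q0 G α) (hJ : α ∉ JJ G) : ∃ ξ ∈ RS G α, Qd G ξ := by
  obtain ⟨ρ, hρ⟩ := not_forall.1 hJ
  obtain ⟨hρ, h0⟩ := Classical.not_imp.1 hρ
  obtain ⟨r, hr⟩ := exists_inv_poly hk hρ h h0
  have c1 := comm_aeval h.sq ρ r
  rw [add_comm] at c1
  refine ⟨_, mem_top hk h hρ.toQ0, hρ.of_rk_le (mem_top hk h hρ.toQ0).1 (fun e => h0 ?_)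
    ((rk_mono (range_mul_le _ _)).trans (rk_mul_le_right _ _))⟩
  have : ρ * α = 0 := by
    conv_lhs => rw [← hr, mul_assoc, ← c1.eq, ← mul_assoc, mul_assoc ρ α, mul_assoc ρ, e]
    simp
  rw [this, zero_mul]

lemma sandwich (hυ : Qd G υ) (h : ∀ ζ ∈ RS G υ, α * ζ = ζ * α) (hξ : ξ ∈ RS G α) (hα : α * α = 0) : υ * ξ * υ = 0 := by
  by_contra h0
  have h1 := mem_top hk hυ.toQ0 hξ.1
  have h2 : α * ξ = 0 := RS_left hξ hα
  have h3 : α * υ = 0 := RS_left (hυ.mem_symm h1 h0) (by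
    rw [← mul_assoc, ← mul_assoc, h υ hυ.toQ0.mem_RS, mul_assoc υ, h2]; simp)
  exact h0 (by rw [mul_assoc, RS_right hξ h3, mul_zero])

lemma comm_root (hχ : Qd G χ) (hυ : Qd G υ) (ht : Trip χ υ) (hα : α * α = 0) (h1 : ∀ ζ ∈ RS G χ, α * ζ = ζ * α)
    (h2 : ∀ ζ ∈ RS G υ, α * ζ = ζ * α) (hξ : ξ ∈ RS G α) (hq : Qd G ξ) (h0 : χ * ξ - ξ * χ ≠ 0) :
    Qd G (χ * ξ - ξ * χ) ∧ χ * ξ - ξ * χ ∈ RS G α ∧ Pos χ υ (χ * ξ - ξ * χ) ∧ top2 χ υ (χ * ξ - ξ * χ) = 0 := by
  have b1 := sandwich hk hχ h1 hξ hα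
  have b2 : χ * ξ - ξ * χ ∈ RS G α := by
    have := RS_cj hξ hχ.toQ0.un_mem
    rw [(cj_un_iff hχ.sq).2 (h1 χ hχ.toQ0.mem_RS), cj_of_eq (α := χ) (by simp) hχ.sq, b1] at this
    convert sub_mem this hξ using 1; abel
  have a1 : ∀ x, χ * (χ * x) = 0 := fun x => by rw [← mul_assoc, ht.aa, zero_mul]
  have a3 : ∀ x, χ * (υ * (χ * x)) = χ * x := fun x => by rw [← mul_assoc, ← mul_assoc, ht.aba]
  have a5 : χ * (υ * χ) = χ := by rw [← mul_assoc, ht.aba]
  refine ⟨(comm_struct hχ hq b1 (nil_symm hk hχ hq b1) h0).1, b2, ⟨?_, ?_, ?_⟩, ?_⟩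
  · rw [mul_sub, a1, ← mul_assoc, b1, sub_zero]
  · rw [sub_mul, b1, mul_assoc, ht.aa, mul_zero, sub_zero]
  · simp only [mul_add, add_mul, mul_sub, sub_mul, mul_one, one_mul, mul_assoc, a1, a3, a5, mul_zero, zero_mul]
    abel
  · rw [top2, ← mul_assoc, mul_assoc χ υ, mul_assoc χ, sandwich hk hυ h2 b2 hα]; simp

variable (hI : HypI G)
include hI

omit hk hI in
lemma comp_conj' (hg : g ∈ G) {A B : Subgroup (End k M)ˣ} (hB : B ∈ comp (quadraticRootSubgroups G) A) :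
    g ⋆ B ∈ comp (quadraticRootSubgroups G) (g ⋆ A) := by
  refine ⟨roots_conj hB.1 hg, ?_⟩
  have := hB.2
  clear hB
  induction this with
  | refl => exact .refl
  | tail _ h ih => exact ih.tail ⟨roots_conj h.1 hg, roots_conj h.2.1 hg, r1_conj h.2.2 g⟩

omit hk hI in
lemma conj_CG_le (hg : g ∈ G) : g ⋆ CG G χ ≤ CG G (cj g χ) := by
  rw [Subgroup.map_le_iff_le_comap]
  refine iSup₂_le fun B hB => Subgroup.map_le_iff_le_comap.1 (le_iSup_mem ?_)
  rw [← conj_RG hg]; exact comp_conj' hg hB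

lemma exists_conj_of_comp {B : Subgroup (End k M)ˣ} (hB : B ∈ comp (quadraticRootSubgroups G) (RG G χ)) :
    ∃ g ∈ CG G χ, B = g ⋆ RG G χ := by
  have := hB.2
  clear hB
  induction this with
  | refl => exact ⟨1, one_mem _, (conj_one _).symm⟩
  | tail h0 h ih =>
    obtain ⟨g, h1, h2⟩ := ih
    obtain ⟨σ, h4, rfl⟩ := mem_roots_iff.1 h.1
    obtain ⟨σ', h5, rfl⟩ := mem_roots_iff.1 h.2.1
    obtain ⟨β, h6, h7, h8⟩ := exists_trip hk h4 h5 ((r1_iff_opp hk hI h4 h5).1 h.2.2)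
    have e := h8.conj_eq h4 (h5.of_mem h6 h7) (a := un h8.aa) (b := un h8.bb) (by simp) (by simp)
    rw [h5.RG_eq h6 h7, conj_eq_iff_eq_inv_conj, inv_inv, conj_conj] at e
    refine ⟨(un h8.bb * (un h8.aa)⁻¹)⁻¹ * g, mul_mem (inv_mem (mul_mem ?_ (inv_mem ?_))) h1, ?_⟩
    · exact le_iSup_mem (S := comp _ _) ⟨h.2.1, h0.tail h⟩ (un_mem_RG h6)
    · exact le_iSup_mem (S := comp _ _) ⟨h.1, h0⟩ (un_mem_RG h4.toQ0.mem_RS)
    · rw [← conj_conj, ← h2, e, inv_conj_conj]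

lemma mem_comp_of_norm (hχ : Qd G χ) (hg : g ∈ G) (h : g ∈ Subgroup.normalizer (CG G χ : Set (End k M)ˣ)) :
    g ⋆ RG G χ ∈ comp (quadraticRootSubgroups G) (RG G χ) := by
  by_contra hn
  obtain ⟨υ, hυ, ht⟩ := exists_trip' hk hI hχ
  have h1 : Cm (g ⋆ CG G χ) (CG G χ) := ((lrs_roots hk hI).cm_comp fun e => hn (by
    rw [← e, conj_RG hg]; exact comp_self (hχ.conj hg).root)).mono (conj_CG_le hg) le_rfl
  rw [conj_eq_self_iff.2 h] at h1
  have := cm_RG_iff.1 (h1.mono (RG_le_CG hχ) (CG_eq hk hI hχ hυ ht ▸ RG_le_CG hυ)) χ hχ.toQ0.mem_RS υ hυ.toQ0.mem_RS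
  exact hχ.ne (by rw [← ht.aba, this, mul_assoc, ht.aa, mul_zero])

variable [Finite (End k M)ˣ]

lemma norm_or_cm (hg : g ∈ G) :
    g ∈ Subgroup.normalizer (CG G χ : Set (End k M)ˣ) ∨ Cm (g ⋆ CG G χ) (CG G χ) := by
  by_cases e : comp (quadraticRootSubgroups G) (RG G (cj g χ)) = comp (quadraticRootSubgroups G) (RG G χ)
  · refine Or.inl (mem_normalizer_of_conj_le ((conj_CG_le hg).trans_eq ?_))
    rw [CG, e]
  · exact Or.inr (((lrs_roots hk hI).cm_comp e).mono (conj_CG_le hg) le_rfl)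

variable [CharP k p] (h3 : 3 ≤ p)
include hp h3

/-- an opposite pair adapted to a coprime solvable group. -/
theorem exists_fixed_pair (hξ : Qd G ξ) (hR : R ≤ G) (hs : Group.IsSolvable R) (hc : (Nat.card R).Coprime p)
    (hc' : (Nat.card R).Coprime (Nat.card (RT G))) :
    ∃ χ υ, Qd G χ ∧ Qd G υ ∧ Trip χ υ ∧ CG G χ = CG G ξ ∧ ∀ r ∈ R,
      (r ∈ Subgroup.normalizer (CG G χ : Set (End k M)ˣ) ∧ Z0 χ υ r) ∨ Cm (r ⋆ CG G χ) (CG G χ) := by
  set R₁ := R ⊓ Subgroup.normalizer (CG G ξ : Set (End k M)ˣ)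
  have hd : Nat.card R₁ ∣ Nat.card R := Subgroup.card_dvd_of_le inf_le_left
  obtain ⟨n, hn, e⟩ := Coprime.exists_conj_mem_of_subset_mul (B := R₁) (N := CG G ξ)
    (S := Subgroup.normalizer (RG G ξ : Set (End k M)ˣ)) inf_le_right
    ((hc'.coprime_dvd_left hd).coprime_dvd_right (Subgroup.card_dvd_of_le comp_le))
    (Or.inl (Group.isSolvable_of_isSolvable_injective (Subgroup.inclusion_injective inf_le_left))) fun r hr => by
      obtain ⟨g, h1, h2⟩ := exists_conj_of_comp hk hI (mem_comp_of_norm hk hI hξ (hR hr.1) hr.2)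
      exact ⟨g⁻¹, inv_mem h1, conj_eq_self_iff.1 (by rw [← conj_conj, h2, inv_conj_conj])⟩
  have hχ := hξ.conj (CG_le hn)
  have e1 : CG G (cj n ξ) = CG G ξ := by
    rw [CG, ← conj_RG (CG_le hn), comp_eq ((lrs_roots hk hI).comp_conj (comp_self hξ.root) (comp_le hn))]
  obtain ⟨υ, hυ, ht, h⟩ := exists_fixed_partner h3 hk hI hχ (D := R₁) (inf_le_left.trans hR) (hc.coprime_dvd_left hd)
    fun r hr => cj_mem_of_norm (by
      rw [← conj_RG (CG_le hn), ← conj_normalizer, mem_conj]; exact e r hr) hχ.toQ0.mem_RS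
  refine ⟨_, υ, hχ, hυ, ht, e1, fun r hr => (norm_or_cm hk hI (hR hr)).imp_left fun h1 => ⟨h1, h r ⟨hr, e1 ▸ h1⟩⟩⟩

/-- an invariant quadratic element in non-nilpotent position. -/
theorem exists_eps (hT : T ≤ G) (hc : (Nat.card T).Coprime p) (hα : Q0 G α) (hTα : ∀ τ ∈ T, cj τ α = α)
    (hl : Qd G l) (hl' : Qd G l') (ht : Trip l l') (hm : l ∈ RS G α) (hz : ∀ τ ∈ T, Z0 l l' τ)
    (hs : ∀ τ ∈ T, ∃ c : k, c ≠ 0 ∧ cj τ l = c • l) (h0 : l' * α * l' = 0) :
    ∃ ε, Q0 G ε ∧ (∀ τ ∈ T, cj τ ε = ε) ∧ l' * (α * ε) = -l' := by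
  have hη := mem_top hk hα hl'.toQ0
  have key : ∀ ν, α * ν * α = 0 → l * ν * l = 0 := fun ν h => by
    rw [mul_assoc]; exact RS_right hm (by rw [← mul_assoc]; exact RS_left hm h)
  have hq : Qd G (α * l' * α) := hl'.of_rk_le hη.1 (fun e => hl.ne (by rw [← ht.aba, key _ e]))
    ((rk_mono (range_mul_le _ _)).trans (rk_mul_le_right _ _))
  have b1 : α * l = 0 := RS_left hm hα.sq
  have b2 : l * α = 0 := RS_right hm hα.sq
  have a1 : ∀ x, l' * (α * (l' * x)) = 0 := fun x => by rw [← mul_assoc, ← mul_assoc, h0, zero_mul]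
  have a2 : ∀ x, l * (α * x) = 0 := fun x => by rw [← mul_assoc, b2, zero_mul]
  have a3 : ∀ x, α * (l * x) = 0 := fun x => by rw [← mul_assoc, b1, zero_mul]
  set z := repK ht (-1) with hzd
  have hz1 : (z : End k M) * (α * l' * α) = α * l' * α := by
    rw [hzd, repK_neg_one]; simp only [sub_mul, add_mul, mul_assoc, a1, a2, mul_zero, add_zero, one_mul, sub_zero]
  have hz2 : α * l' * α * (z : End k M) = α * l' * α := by
    rw [hzd, repK_neg_one, two_mul]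
    simp only [mul_sub, mul_add, mul_assoc, a1, a3, mul_zero, add_zero, mul_one, sub_zero]
  have hz3 := cj_eq_iff.2 (hz1.trans hz2.symm)
  have hzG : z ∈ G := repK_mem_G ht hl.toQ0 hl'.toQ0 _
  have hzT : Subgroup.zpowers z ≤ Subgroup.normalizer (T : Set (End k M)ˣ) :=
    (Subgroup.zpowers_le.2 (Subgroup.mem_centralizer_iff.2 fun τ hτ => Units.ext (by
      rw [Units.val_mul, Units.val_mul, hzd, repK_neg_one, two_mul]
      simp only [mul_sub, sub_mul, mul_add, add_mul, (hz τ hτ).a, (hz τ hτ).b, mul_one, one_mul]))).trans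
      (Subgroup.centralizer_le_normalizer _)
  have hη' : ∀ τ ∈ T, ∀ c : k, c ≠ 0 → cj τ l = c • l → cj τ (α * l' * α) = c⁻¹ • (α * l' * α) := fun τ hτ c hc e => by
    rw [cj_mul, cj_mul, hTα τ hτ, partner_smul ht (hz τ hτ) hc e]; simp
  obtain ⟨η', c1, c2, c3⟩ := exists_fixed_partner h3 hk hI hq (D := T ⊔ Subgroup.zpowers z)
    (sup_le hT (Subgroup.zpowers_le.2 hzG)) (Nat.Coprime.coprime_dvd_left (Coprime.card_sup_dvd hzT) (hc.mul_left (by
      rw [Nat.card_zpowers]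
      refine Nat.Coprime.coprime_dvd_left (orderOf_dvd_of_pow_eq_one (n := 2) (by rw [hzd, ← map_pow]; simp)) ?_
      exact (Nat.coprime_primes Nat.prime_two hp.out).2 (by omega)))) fun d hd => by
      refine cj_mem_of_norm (sup_le (fun τ hτ => ?_) (Subgroup.zpowers_le.2 ?_) hd) hq.toQ0.mem_RS
      · obtain ⟨c, hc, e⟩ := hs τ hτ
        exact norm_of_cj_mem hq (hT hτ) (hη' τ hτ c hc e ▸ (RS G _).smul_mem _ hq.toQ0.mem_RS)
      · exact norm_of_cj_mem hq hzG (hz3.symm ▸ hq.toQ0.mem_RS)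
  have c4 := c3 z (Subgroup.mem_sup_right (Subgroup.mem_zpowers z))
  have d1 : l' * η' = 0 := by
    have : (z : End k M) * η' = η' := by rw [← c2.bab, ← mul_assoc, c4.b, mul_assoc η', hz2]
    rw [hzd, repK_neg_one, sub_mul, one_mul, sub_eq_self, mul_assoc, two_mul, ← two_smul k, smul_eq_zero_iff_right hk.two]
      at this
    rw [← ht.symm.gam_right, add_comm, mul_assoc, this, mul_zero]
  have d2 : η' * l' = 0 := by
    have : η' * (z : End k M) = η' := by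
      rw [← c2.bab, mul_assoc η', mul_assoc η', ← c4.a, ← mul_assoc (z : End k M), hz1]
    rw [hzd, repK_neg_one, mul_sub, mul_one, sub_eq_self, two_mul, ← two_smul k, mul_smul_comm,
      smul_eq_zero_iff_right hk.two] at this
    rw [← ht.symm.gam_left, add_comm, ← mul_assoc, this, zero_mul]
  have a4 : ∀ x, η' * (l' * x) = 0 := fun x => by rw [← mul_assoc, d2, zero_mul]
  refine ⟨_, q0_comm hk (q0_comm hk hα hl'.toQ0 h0) c1.toQ0 (by
    simp only [mul_sub, sub_mul, mul_assoc, a4, d1, mul_zero, zero_mul, sub_self]), fun τ hτ => ?_, ?_⟩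
  · obtain ⟨c, hc, e⟩ := hs τ hτ
    have := partner_smul c2 (c3 τ (Subgroup.mem_sup_left hτ)) (inv_ne_zero hc) (hη' τ hτ c hc e)
    simp only [cj_sub, cj_mul, hTα τ hτ, partner_smul ht (hz τ hτ) hc e, this, inv_inv, smul_mul_assoc, mul_smul_comm,
      ← smul_sub, smul_smul, mul_inv_cancel₀ hc, inv_mul_cancel₀ hc, one_smul]
  · have hν := sub_mem (mem_top hk hl'.toQ0 (mem_top hk hα c1.toQ0).1) hl'.toQ0.mem_RS
    have : l' * (α * η' * α) * l' - l' = 0 := by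
      by_contra hne
      refine opp_all hk hl hl' (ht.aba.symm ▸ hl.ne) hl.toQ0.mem_RS hν hl.ne hne (key _ ?_)
      rw [mul_sub, sub_mul, sub_eq_zero]
      conv_rhs => rw [← c2.aba]
      simp only [mul_assoc]
    rw [sub_eq_zero] at this
    conv_rhs => rw [← this]
    simp only [mul_sub, sub_mul, mul_assoc, a1, a4, d1, mul_zero, zero_sub, sub_zero, mul_neg]

end Cfsg.Lib.EQ
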