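import Cfsg.Agent.Lib.EQ.Cent
import Cfsg.Agent.Lib.PGroup.Basic

/-! The only root group of a component normalised by the unipotent radical of `χ` is the root group of `χ`. -/

set_option autoImplicit false
set_option linter.unusedSimpArgs false

namespace Cfsg.Lib.EQ
open Cfsg.Lib.QuadPair Cfsg.Lib.Transfer Cfsg.Lib.Root Module LinearMap Polynomial
open scoped Cfsg.Lib.Transfer commutatorElement MatrixGroups

variable {k : Type*} [Field k] {M : Type*} [AddCommGroup M] [Module k M]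
variable {G H D S : Subgroup (End k M)ˣ} {α β α' β' χ υ δ ρ ρ' ξ η x y : End k M} {g u v : (End k M)ˣ}
variable {p : ℕ} [hp : Fact p.Prime]

/-- the weight zero component of an endomorphism commuting with `χ`. -/
def wz (χ υ y : End k M) : End k M :=
  y * (χ * υ) + (1 - (χ * υ + υ * χ)) * y * (1 - (χ * υ + υ * χ)) + υ * χ * y

lemma wz_smul (c : k) : wz χ υ (c • y) = c • wz χ υ y := by simp [wz]

section
variable (ht : Trip χ υ) (h : y * χ = χ * y)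
include ht h

lemma wz_rules : (∀ x, χ * (χ * x) = 0) ∧ (∀ x, υ * (υ * x) = 0) ∧ (∀ x, χ * (υ * (χ * x)) = χ * x) ∧
    (∀ x, υ * (χ * (υ * x)) = υ * x) ∧ χ * (υ * χ) = χ ∧ υ * (χ * υ) = υ ∧ (∀ x, y * (χ * x) = χ * (y * x)) :=
  ⟨fun x => by rw [← mul_assoc, ht.aa, zero_mul], fun x => by rw [← mul_assoc, ht.bb, zero_mul],
    fun x => by rw [← mul_assoc, ← mul_assoc, ht.aba], fun x => by rw [← mul_assoc, ← mul_assoc, ht.bab],
    by rw [← mul_assoc, ht.aba], by rw [← mul_assoc, ht.bab], fun x => by rw [← mul_assoc, h, mul_assoc]⟩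

lemma wz_key : χ * (y * (υ * χ)) = χ * y := by rw [← (wz_rules ht h).2.2.2.2.2.2, ← mul_assoc χ, ht.aba, h]

lemma z0_wz : Z0 χ υ (wz χ υ y) := by
  obtain ⟨a1, a2, a3, a4, a5, a6, a7⟩ := wz_rules ht h
  have a8 := wz_key ht h
  constructor <;>
  · simp only [wz, mul_add, add_mul, mul_sub, sub_mul, mul_one, one_mul, mul_assoc, a1, a2, a3, a4, a5, a6, a7, a8, h,
      ht.aa, ht.bb, mul_zero, zero_add, add_zero]
    abel

lemma pos_wz : Pos χ υ (y - wz χ υ y) := by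
  obtain ⟨a1, a2, a3, a4, a5, a6, a7⟩ := wz_rules ht h
  have a8 := wz_key ht h
  constructor <;>
  · simp only [wz, mul_add, add_mul, mul_sub, sub_mul, mul_one, one_mul, mul_assoc, a1, a2, a3, a4, a5, a6, a7, a8, h,
      ht.aa, ht.bb, mul_zero, zero_add, add_zero]
    abel

lemma rk_wz [FiniteDimensional k M] : rk (wz χ υ y) ≤ rk y := by
  obtain ⟨a1, a2, a3, a4, a5, a6, a7⟩ := wz_rules ht h
  have a8 := wz_key ht h
  have h1 := rk_mul_add (υ * χ) y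
  have h2 := rk_mul_add (1 - (χ * υ + υ * χ)) (y * (1 - υ * χ))
  have h3 : rk (y * (1 - υ * χ)) ≤ finrank k (range y ⊓ ker (υ * χ) : Submodule k M) :=
    Submodule.finrank_mono (le_inf (range_mul_le _ _) (mul_eq_zero_iff.1 (by
      simp only [mul_sub, mul_one, mul_assoc, a8, sub_self])))
  have h4 : rk (y * (χ * υ)) ≤ finrank k (range (y * (1 - υ * χ)) ⊓ ker (1 - (χ * υ + υ * χ)) : Submodule k M) := by
    refine Submodule.finrank_mono (le_inf ?_ (mul_eq_zero_iff.1 ?_))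
    · rw [show y * (χ * υ) = y * (1 - υ * χ) * (χ * υ) by simp only [mul_sub, sub_mul, mul_one, mul_assoc, a1]; simp]
      exact range_mul_le _ _
    · simp only [add_mul, sub_mul, one_mul, mul_assoc, a1, a3, a7]; simp
  have h5 : (1 - (χ * υ + υ * χ)) * (y * (1 - υ * χ)) = (1 - (χ * υ + υ * χ)) * y * (1 - (χ * υ + υ * χ)) := by
    simp only [mul_add, add_mul, mul_sub, sub_mul, mul_one, one_mul, mul_assoc, a1, a3, a7, mul_zero]
    abel
  have h6 : ∀ x y : End k M, rk (x + y) ≤ rk x + rk y := fun x y =>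
    (Submodule.finrank_mono (range_add_le x y)).trans (Submodule.finrank_add_le_finrank_add_finrank _ _)
  have h7 := h6 (y * (χ * υ) + (1 - (χ * υ + υ * χ)) * y * (1 - (χ * υ + υ * χ))) (υ * χ * y)
  have h8 := h6 (y * (χ * υ)) ((1 - (χ * υ + υ * χ)) * y * (1 - (χ * υ + υ * χ)))
  rw [h5] at h2
  rw [wz]; omega

lemma wz_sq (hy : y * y = 0) : wz χ υ y * wz χ υ y = 0 := by
  have h1 := pos_wz ht h
  refine pos_eq_zero ht ?_ ((z0_wz ht h).mul (z0_wz ht h))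
  have := pos_add (pos_add (pos_neg (pos_mul_right' ht h1 h)) (pos_neg (pos_mul_left' ht h1 h))) (pos_mul h1 h1)
  convert this using 1
  simp only [mul_sub, sub_mul, hy]; abel

lemma wz_eq (hv : v ∈ UU χ) (e : (g : End k M) - 1 = y) (hz : Z0 χ υ ((v * g : (End k M)ˣ) : End k M)) :
    ((v * g : (End k M)ˣ) : End k M) = 1 + wz χ υ y := by
  have h1 := (pos_iff ht).1 hv
  refine sub_eq_zero.1 (pos_eq_zero ht ?_ (hz.sub (z0_one.add (z0_wz ht h))))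
  have := pos_add (pos_add (pos_wz ht h) h1) (pos_mul_right' ht h1 h)
  convert this using 1
  rw [Units.val_mul, sub_eq_iff_eq_add.1 e]; noncomm_ring

end

variable [FiniteDimensional k M] (hk : Big k) (hI : HypI G) (hχ : Qd G χ) (hυ : Qd G υ) (ht : Trip χ υ)
include hk hI hχ hυ ht

lemma mem_comp_of_not_z0 (hρ : Qd G ρ) (h : ¬ Z0 χ υ ρ) : RG G ρ ∈ comp (quadraticRootSubgroups G) (RG G χ) := by
  by_contra hn
  have h1 := cm_RG_iff.1 ((lrs_roots hk hI).cm_of_not_mem (comp_self hχ.root) hρ.root hn)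
  have h2 := cm_RG_iff.1 ((lrs_roots hk hI).cm_of_not_mem (opp_mem_comp hk hI hχ hυ (ht.aba.symm ▸ hχ.ne)) hρ.root hn)
  exact h (z0_of_comm (h1 _ hχ.toQ0.mem_RS _ hρ.toQ0.mem_RS).symm (h2 _ hυ.toQ0.mem_RS _ hρ.toQ0.mem_RS).symm)

omit hk hI hχ hυ [FiniteDimensional k M] in
lemma cj_gr_one (s : kˣ) (hp : Pos χ υ α) (h2 : top2 χ υ α = 0) : cj (gr ht s) α = (s : k) • α := by
  obtain ⟨a1, a2, a3, a4, a5, a6, a7, a8, a9⟩ := hp.rules ht
  have b1 : χ * (υ * (α * (υ * χ))) = 0 := by simpa only [top2, mul_assoc] using h2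
  rw [b1, sub_zero] at a9
  rw [cj, gr_inv, gr_val, gr_val, inv_inv]
  simp only [mul_add, add_mul, mul_sub, sub_mul, mul_one, one_mul, mul_assoc, smul_mul_assoc, mul_smul_comm, a7, a8, hp.l,
    b1, mul_zero, smul_zero, add_zero, zero_add, sub_zero]
  linear_combination (norm := module) (1 - (s : k)) • a9

variable [Finite (End k M)ˣ] [Finite k] [CharP k p] (h3 : 3 ≤ p)
include hp h3

/-- a root of weight one does not centralise all roots of positive weight. -/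
lemma not_cent_of_weight_one (hα : Qd G α) (h1 : Pos χ υ α) (h2 : top2 χ υ α = 0)
    (h : ∀ σ, Qd G σ → Pos χ υ σ → σ * α = α * σ) : False := by
  obtain ⟨a, ha0, ha⟩ := hk.ex
  have hs : ((Units.mk0 a ha0 : kˣ) : k) ^ 2 ≠ 1 := ha
  obtain ⟨β, hβ, hl, -, z1, z2⟩ := exists_partner_gr hk hI hχ ht h3 hυ.toQ0 hα hs (by
    rw [cj_gr_one ht _ h1 h2]; exact (RS G α).smul_mem _ hα.toQ0.mem_RS)
  obtain ⟨-, b2⟩ := partner_pos ht hl h1 h2 z1 z2
  obtain ⟨a1, a2, a3, a4, a5, a6, a7, a8, a9⟩ := h1.rules ht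
  have hc : (χ * β - β * χ) * α = α * (χ * β - β * χ) := by
    by_cases h0 : χ * β - β * χ = 0
    · simp [h0]
    refine h _ (comm_struct hχ hβ b2 (nil_symm hk hχ hβ b2) h0).1 ⟨?_, ?_, ?_⟩
    · rw [mul_sub, a1, ← mul_assoc, b2, sub_zero]
    · rw [sub_mul, b2, mul_assoc, ht.aa, mul_zero, sub_zero]
    · simp only [mul_add, add_mul, mul_sub, sub_mul, mul_one, one_mul, mul_assoc, a1, a3, a5, mul_zero, zero_mul]
      abel
  simp only [mul_sub, sub_mul, mul_assoc, h1.l, a8, mul_zero, sub_zero, zero_sub] at hc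
  have c1 : α * (β * χ) = 0 := by
    have : α * (β * (χ * (β * α))) = χ * (β * α) := by
      rw [hc, mul_neg, mul_neg, ← mul_assoc, ← mul_assoc, hl.aba]
    have e : α * (β * (χ * (β * α))) = α * (β * χ) * (β * α) := by simp only [mul_assoc]
    rw [e, ← neg_neg (α * (β * χ)), ← hc, neg_mul, mul_assoc, ← mul_assoc (β * α), hl.bab, hc, neg_neg] at this
    apply smul_right_injective _ hk.two
    simp only [two_smul, add_zero]
    nth_rw 1 [this]; abel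
  rw [c1, neg_zero] at hc
  have c2 : χ * (υ * α) = 0 := by
    rw [← mul_assoc, ← hl.aba, ← mul_assoc, ← z1.a, mul_assoc α, ← mul_assoc β, ← mul_assoc α, c1]; simp
  have c3 : α * (υ * χ) = 0 := by rw [← hl.aba, mul_assoc, mul_assoc, ← mul_assoc β, z2.b, mul_assoc υ, hc]; simp
  rw [c2, c3] at a9
  exact hα.ne (by simpa using a9)

theorem fix_eq (hδ : Qd G δ) (hD : RG G δ ∈ comp (quadraticRootSubgroups G) (RG G χ))
    (h : CG G χ ⊓ UU χ ≤ Subgroup.normalizer (RG G δ : Set (End k M)ˣ)) : RG G δ = RG G χ := by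
  obtain ⟨a, ha0, ha⟩ := hk.ex
  have hs : ((Units.mk0 a ha0 : kˣ) : k) ^ 2 ≠ 1 := ha
  have hc : ∀ σ, Qd G σ → Pos χ υ σ → ∀ ξ ∈ RS G δ, σ * ξ = ξ * σ := fun σ h1 h2 ξ hξ =>
    comm_of_norm hk hδ h1.sq (conj_eq_self_iff.2 (h ⟨le_iSup_mem (mem_comp_of_not_z0 hk hI hχ hυ ht h1 fun e =>
      h1.ne (pos_eq_zero ht h2 e)) (un_mem_RG h1.toQ0.mem_RS), (pos_iff ht).2 (by simpa using h2)⟩)) h1.toQ0.un_mem hξ
  have hpχ : Pos χ υ χ := by simpa using (pos_iff ht).1 (RG_le_UU hχ.sq (un_mem_RG hχ.toQ0.mem_RS))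
  by_cases h1 : ∃ ξ ∈ RS G δ, ξ ≠ 0 ∧ Pos χ υ ξ
  · obtain ⟨ξ, h1, h2, h4⟩ := h1
    have h5 := top2_mem ht h4 hk hχ.toQ0 hυ.toQ0 h1.1
    by_cases h6 : ξ - top2 χ υ ξ = 0
    · rw [← hδ.RG_eq h1 h2, hχ.RG_eq (sub_eq_zero.1 h6 ▸ h5) h2]
    obtain ⟨a1, a2, a3, a4, a5, a6, a7, a8, a9⟩ := h4.rules ht
    have h7 : Pos χ υ (top2 χ υ ξ) := by simpa using (pos_iff ht).1 (RG_le_UU hχ.sq (un_mem_RG h5))
    refine (not_cent_of_weight_one hk hI hχ hυ ht h3 (low_qd ht h4 hk hχ hυ.toQ0 (hδ.of_mem h1 h2) h6)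
      (sub_eq_add_neg ξ _ ▸ pos_add h4 (pos_neg h7)) ?_ fun σ b1 b2 => ?_).elim
    · simp only [top2, mul_sub, sub_mul, mul_assoc, a3, a5, sub_self]
    · rw [mul_sub, sub_mul, hc σ b1 b2 ξ h1, RS_left h5 b2.r, RS_right h5 b2.l]
  exfalso
  push Not at h1
  set U := CG G χ ⊓ UU χ with hU
  have hDle : RG G δ ≤ CG G χ := le_iSup_mem hD
  have hχδ : ∀ d ∈ RG G δ, cj d χ = χ := fun d hd => by
    have := hc χ hχ hpχ _ hd
    rwa [mul_sub, sub_mul, mul_one, one_mul, sub_left_inj, eq_comm, ← cj_eq_iff] at this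
  have hDU : ∀ d ∈ RG G δ, d ∈ Subgroup.centralizer (U : Set (End k M)ˣ) := fun d hd u hu => by
    have b1 : u * d * u⁻¹ * d⁻¹ ∈ RG G δ := mul_mem ((Subgroup.mem_normalizer_iff.1 (h hu) d).1 hd) (inv_mem hd)
    have b2 : u * (d * u⁻¹ * d⁻¹) ∈ UU χ := mul_mem hu.2 (norm_UU (by rw [hχδ d hd]) (by rw [hχδ d hd]) (inv_mem hu.2))
    by_contra hne
    refine h1 _ b1 (sub_one_ne fun e => hne ?_) ((pos_iff ht).1 (by simpa only [mul_assoc] using b2))
    exact commutatorElement_eq_one_iff_mul_comm.1 e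
  have hg : gr ht (Units.mk0 a ha0) ∈ CG G χ :=
    sup_le (RG_le_CG hχ) (CG_eq hk hI hχ hυ ht ▸ RG_le_CG hυ) (gr_mem _ _ hχ.toQ0.mem_RS hυ.toQ0.mem_RS)
  have hgU := normalizer_le_normalizer_centralizer' U (mem_norm_inf hχ (Subgroup.le_normalizer hg) (by
    rw [cj_gr]; exact (RS G χ).smul_mem _ hχ.toQ0.mem_RS))
  have levi : ∀ ξ (hξ : ξ ∈ RS G δ), ∃ v ∈ U, v ∈ Subgroup.centralizer (U : Set (End k M)ˣ) ∧
      ((v * un hξ.1.sq : (End k M)ˣ) : End k M) = 1 + wz χ υ ξ := fun ξ hξ => by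
    have hd := un_mem_RG hξ
    have hH : ∀ u ∈ CG G χ ⊓ Subgroup.centralizer (U : Set (End k M)ˣ), gr ht (Units.mk0 a ha0) * u *
        (gr ht (Units.mk0 a ha0))⁻¹ ∈ CG G χ ⊓ Subgroup.centralizer (U : Set (End k M)ˣ) := fun u hu =>
      ⟨(CG G χ).mul_mem ((CG G χ).mul_mem hg hu.1) ((CG G χ).inv_mem hg), (Subgroup.mem_normalizer_iff.1 hgU u).1 hu.2⟩
    obtain ⟨v, b1, b2, e⟩ := reg hs ht hH (g := un hξ.1.sq * gr ht _ * (un hξ.1.sq)⁻¹) (by
      have h0 : un hξ.1.sq ∈ CG G χ ⊓ Subgroup.centralizer (U : Set (End k M)ˣ) := ⟨hDle hd, hDU _ hd⟩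
      have := mul_mem h0 (hH _ (inv_mem h0))
      simpa only [mul_assoc] using this) (by
      rw [gr_cj]; exact gr_mul_inv ht _ _ (by rw [hχδ _ hd]) (by rw [hχδ _ hd]))
    refine ⟨v⁻¹, inv_mem ⟨b1.1, b2⟩, inv_mem b1.2, wz_eq ht (hc χ hχ hpχ ξ hξ).symm (inv_mem b2) (by simp)
      ((z0_unit_iff hs ht).2 ?_)⟩
    calc _ = v⁻¹ * (un hξ.1.sq * gr ht (Units.mk0 a ha0) * (un hξ.1.sq)⁻¹) * v := by group
      _ = _ := by rw [e]; group
  have hδχ := (hc χ hχ hpχ δ hδ.toQ0.mem_RS).symm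
  have q0 : Q0 G (wz χ υ δ) := ⟨wz_sq ht hδχ hδ.sq, fun c => by
    obtain ⟨v, b1, -, e⟩ := levi _ ((RS G δ).smul_mem c hδ.toQ0.mem_RS)
    rw [← wz_smul, ← e, coe_mem_InG]
    exact mul_mem (CG_le b1.1) (hδ.toQ0.smul c).un_mem⟩
  obtain ⟨v, b1, b2, e⟩ := levi δ hδ.toQ0.mem_RS
  have q1 : wz χ υ δ ≠ 0 := fun e0 => h1 δ hδ.toQ0.mem_RS hδ.ne (by simpa [e0] using pos_wz ht hδχ)
  have hγ := hδ.of_rk_le q0 q1 (rk_wz ht hδχ)
  have b3 : ∀ u ∈ CG G χ, u ∈ UU χ → cj u (wz χ υ δ) = wz χ υ δ := fun u c1 c2 => by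
    have := congrArg Units.val (mul_mem b2 (hDU _ (un_mem_RG hδ.toQ0.mem_RS)) u ⟨c1, c2⟩)
    rw [Units.val_mul, Units.val_mul (v * _), e, mul_add, add_mul, mul_one, one_mul, add_right_inj] at this
    exact cj_eq_iff.2 this
  have b4 := (cj_un_iff hχ.sq).1 (b3 _ (RG_le_CG hχ (un_mem_RG hχ.toQ0.mem_RS))
    (RG_le_UU hχ.sq (un_mem_RG hχ.toQ0.mem_RS)))
  have hP : PC G χ υ (wz χ υ δ) := ⟨hγ, b4, (z0_wz ht hδχ).comm ht b4, b3⟩
  obtain ⟨γ', c1, c2⟩ := exists_trip' hk hI hγ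
  have c3 : wz χ υ δ * γ' * wz χ υ δ ≠ 0 := c2.aba.symm ▸ q1
  have c4 := cm_RG_iff.1 ((lrs_roots hk hI).cm_of_not_mem (opp_mem_comp hk hI hγ c1 c3) hδ.root fun hm =>
    hP.not_mem_comp hk hI hχ hυ ht h3 (by rw [← comp_eq hm, comp_eq hD]; exact comp_self hχ.root))
    _ c1.toQ0.mem_RS _ hδ.toQ0.mem_RS
  have c5 := cj_eq_iff.1 ((hP.step hk hI hχ hυ ht h3 c1 c3).c v b1.1 b1.2)
  have c6 : (1 + wz χ υ δ) * γ' = γ' * (1 + wz χ υ δ) := by
    rw [← e, Units.val_mul, un_val, mul_assoc, ← mul_assoc γ', ← c5, mul_assoc, add_mul, mul_add γ', c4, one_mul, mul_one]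
  rw [add_mul, mul_add, one_mul, mul_one, add_right_inj] at c6
  exact c3 (by rw [c6, mul_assoc, c2.aa, mul_zero])

/-- a `p`-group containing the unipotent radical and normalising the component normalises the root group. -/
theorem le_normalizer_RG (hS : IsPGroup p S) (hG : S ≤ G) (h1 : CG G χ ⊓ UU χ ≤ S)
    (h2 : ∀ g ∈ S, g ⋆ RG G χ ∈ comp (quadraticRootSubgroups G) (RG G χ)) :
    S ≤ Subgroup.normalizer (RG G χ : Set (End k M)ˣ) := by
  by_contra hne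
  obtain ⟨g, b1, b2, -, b3⟩ := PGroup.exists_mem_normalizer_of_lt hS
    (H := S ⊓ Subgroup.normalizer (RG G χ : Set (End k M)ˣ)) (lt_of_le_of_ne inf_le_left fun e => hne (e ▸ inf_le_right))
  refine b2 ⟨b1, conj_eq_self_iff.1 ?_⟩
  have := h2 g b1
  rw [conj_RG (hG b1)] at this ⊢
  refine fix_eq hk hI hχ hυ ht h3 (hχ.conj (hG b1)) this ?_
  rw [← conj_RG (hG b1), ← conj_normalizer]
  refine le_trans (le_inf h1 fun u hu => norm_of_cj_mem hχ (CG_le hu.1) ?_) ((conj_eq_self_iff.2 b3).ge.trans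
    (conj_mono g inf_le_right))
  rw [cj_UU hu.2]; exact hχ.toQ0.mem_RS

end Cfsg.Lib.EQ
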