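import Cfsg.Agent.Lib.QuadPair.Split
import Cfsg.Agent.Lib.Coprime.SZ

/-! Gradings attached to `sl₂`-triples, the unipotent radical of the flag of a quadratic element. -/

set_option autoImplicit false
set_option linter.unusedSimpArgs false

namespace Cfsg.Lib.EQ
open Cfsg.Lib.QuadPair Cfsg.Lib.Transfer Cfsg.Lib.Root Module LinearMap Polynomial
open scoped Cfsg.Lib.Transfer commutatorElement MatrixGroups

variable {k : Type*} [Field k] {M : Type*} [AddCommGroup M] [Module k M]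
variable {G H : Subgroup (End k M)ˣ} {α β α' β' ξ η x y : End k M} {g u : (End k M)ˣ}

/-- the unipotent radical of the flag `range α ≤ ker α`. -/
def UU (α : End k M) : Subgroup (End k M)ˣ := commSub (ker α) ⊓ triSub (range α) (ker α)

lemma mem_UU : g ∈ UU α ↔ α * ((g : End k M) - 1) = 0 ∧ ((g : End k M) - 1) * α = 0 ∧
    ∀ m ∈ ker α, ((g : End k M) - 1) m ∈ range α := by
  refine and_congr mul_eq_zero_iff.symm (and_congr ?_ Iff.rfl)
  rw [mul_eq_zero_iff]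
  exact forall₂_congr fun m _ => by simp [sub_eq_zero]

lemma UU_congr (h1 : range α = range β) (h2 : ker α = ker β) : UU α = UU β := by rw [UU, UU, h1, h2]

lemma UU_conj (hu : u ∈ UU α) (g : (End k M)ˣ) : g * u * g⁻¹ ∈ UU (cj g α) := by
  obtain ⟨h1, h2, h3⟩ := mem_UU.1 hu
  rw [mem_UU, ← cj_sub_one, ← cj_mul, ← cj_mul, h1, h2]
  refine ⟨cj_zero g, cj_zero g, fun m hm => ?_⟩
  have : ((g⁻¹ : (End k M)ˣ) : End k M) m ∈ ker α := by
    rw [mem_ker] at hm ⊢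
    have := congrArg ((g⁻¹ : (End k M)ˣ) : End k M) hm
    rwa [map_zero, ← End.mul_apply, cj, ← mul_assoc, ← mul_assoc, g.inv_mul, one_mul] at this
  obtain ⟨n, hn⟩ := h3 _ this
  refine ⟨(g : End k M) n, ?_⟩
  rw [cj, cj, ← End.mul_apply, mul_assoc, g.inv_mul, mul_one, End.mul_apply, hn]
  rfl

lemma cj_eq_iff : cj g x = x ↔ (g : End k M) * x = x * g := by
  rw [cj, Units.mul_inv_eq_iff_eq_mul]

lemma cj_UU (hu : u ∈ UU α) : cj u α = α := by
  obtain ⟨h1, h2, -⟩ := mem_UU.1 hu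
  rw [mul_sub, sub_eq_zero, mul_one] at h1
  rw [sub_mul, sub_eq_zero, one_mul] at h2
  rw [cj_eq_iff, h1, h2]

lemma cj_UU_RS (hu : u ∈ UU α) (hξ : ξ ∈ RS G α) : cj u ξ = ξ := by
  obtain ⟨h1, h2, -⟩ := mem_UU.1 hu
  have h3 := RS_right hξ h1
  have h4 := RS_left hξ h2
  rw [mul_sub, sub_eq_zero, mul_one] at h3
  rw [sub_mul, sub_eq_zero, one_mul] at h4
  rw [cj_eq_iff, h3, h4]

lemma RG_le_UU (h : α * α = 0) : RG G α ≤ UU α := fun g hg =>
  mem_UU.2 ⟨RS_left hg h, RS_right hg h, fun m hm => by rw [mem_ker.1 (RS_ker hg hm)]; exact zero_mem _⟩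

lemma pos_iff (ht : Trip α β) : g ∈ UU α ↔ Pos α β ((g : End k M) - 1) := by
  rw [mem_UU]
  generalize (g : End k M) - 1 = n
  have e1 : α * (1 - (α * β + β * α)) = 0 := by rw [mul_sub, ht.gam_right]; simp
  have e2 : (1 - (α * β + β * α)) * α = 0 := by rw [sub_mul, ht.gam_left]; simp
  constructor
  · rintro ⟨h1, h2, h3⟩
    refine ⟨h1, h2, LinearMap.ext fun m => ?_⟩
    exact mul_eq_zero_iff.1 e2 (h3 _ (mul_eq_zero_iff.1 e1 ⟨m, rfl⟩))
  · intro hp
    refine ⟨hp.l, hp.r, fun m hm => ⟨β (n m), ?_⟩⟩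
    have := congrArg (fun f : End k M => f m) (hp.rules ht).2.2.2.2.2.2.2.2
    simp only [LinearMap.add_apply, LinearMap.sub_apply, End.mul_apply, mem_ker.1 hm, map_zero, add_zero,
      sub_zero] at this
    exact this.symm

/-- weight zero. -/
structure Z0 (α β y : End k M) : Prop where
  a : y * (α * β) = α * β * y
  b : y * (β * α) = β * α * y

lemma Z0.symm (h : Z0 α β y) : Z0 β α y := ⟨h.b, h.a⟩

lemma z0_of_comm (h1 : y * α = α * y) (h2 : y * β = β * y) : Z0 α β y :=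
  ⟨by rw [← mul_assoc, h1, mul_assoc, h2, mul_assoc], by rw [← mul_assoc, h2, mul_assoc, h1, mul_assoc]⟩

lemma Z0.mul (h : Z0 α β x) (h' : Z0 α β y) : Z0 α β (x * y) :=
  ⟨by rw [mul_assoc, h'.a, ← mul_assoc, h.a, mul_assoc], by rw [mul_assoc, h'.b, ← mul_assoc, h.b, mul_assoc]⟩

lemma Z0.sub (h : Z0 α β x) (h' : Z0 α β y) : Z0 α β (x - y) :=
  ⟨by rw [sub_mul, mul_sub, h.a, h'.a], by rw [sub_mul, mul_sub, h.b, h'.b]⟩

lemma z0_one : Z0 α β 1 := ⟨by simp, by simp⟩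

lemma Z0.comm (ht : Trip α β) (h : Z0 α β y) (h1 : y * α = α * y) : y * β = β * y := by
  calc y * β = y * (β * α) * β := by rw [mul_assoc, ht.bab]
    _ = β * (y * (α * β)) := by rw [h.b, mul_assoc β α y, ← h1]; simp only [mul_assoc]
    _ = β * y := by rw [h.a, ← mul_assoc, ← mul_assoc, ht.bab]

lemma pos_eq_zero (ht : Trip α β) (hp : Pos α β y) (h : Z0 α β y) : y = 0 := by
  have e := (hp.rules ht).2.2.2.2.2.2.2.2
  have h1 : α * (β * y) = 0 := by rw [← mul_assoc, ← h.a, ← mul_assoc, hp.r, zero_mul]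
  have h2 : y * (β * α) = 0 := by rw [h.b, mul_assoc, hp.l, mul_zero]
  rw [e, h1, h2]; simp

lemma pos_add (h : Pos α β x) (h' : Pos α β y) : Pos α β (x + y) :=
  ⟨by rw [mul_add, h.l, h'.l, add_zero], by rw [add_mul, h.r, h'.r, add_zero],
    by rw [mul_add, add_mul, h.m, h'.m, add_zero]⟩

lemma pos_mul_left (h : Pos α β x) (h1 : y * α = α * y) (h2 : y * β = β * y) : Pos α β (y * x) := by
  have h3 := z0_of_comm h1 h2
  refine ⟨by rw [← mul_assoc, ← h1, mul_assoc, h.l, mul_zero], by rw [mul_assoc, h.r, mul_zero], ?_⟩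
  have : (1 - (α * β + β * α)) * y = y * (1 - (α * β + β * α)) := by
    rw [sub_mul, mul_sub, add_mul, mul_add, h3.a, h3.b]; simp
  rw [← mul_assoc, this, mul_assoc, mul_assoc, ← mul_assoc _ x, h.m, mul_zero]

lemma pos_mul_right (h : Pos α β x) (h1 : y * α = α * y) (h2 : y * β = β * y) : Pos α β (x * y) := by
  have h3 := z0_of_comm h1 h2
  refine ⟨by rw [← mul_assoc, h.l, zero_mul], by rw [mul_assoc, h1, ← mul_assoc, h.r, zero_mul], ?_⟩
  have : (1 - (α * β + β * α)) * y = y * (1 - (α * β + β * α)) := by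
    rw [sub_mul, mul_sub, add_mul, mul_add, h3.a, h3.b]; simp
  rw [← mul_assoc, mul_assoc _ y, ← this, ← mul_assoc, h.m, zero_mul]

lemma pos_mul (h : Pos α β x) (h' : Pos α β y) : Pos α β (x * y) := by
  refine ⟨by rw [← mul_assoc, h.l, zero_mul], by rw [mul_assoc, h'.r, mul_zero], ?_⟩
  have e : x * y = x * (1 - (α * β + β * α)) * y := by
    rw [mul_sub, mul_add, ← mul_assoc x α, h.r, sub_mul, add_mul, mul_assoc x (β * α), mul_assoc β, h'.l]; simp
  have e2 : (1 - (α * β + β * α)) * x * (1 - (α * β + β * α)) * y * (1 - (α * β + β * α)) = 0 := by rw [h.m]; simp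
  rw [e]; simpa only [mul_assoc] using e2

/-- the grading element. -/
def gr (ht : Trip α β) (s : kˣ) : (End k M)ˣ := repK ht (dR s)

lemma gr_val (ht : Trip α β) (s : kˣ) :
    (gr ht s : End k M) = 1 - (α * β + β * α) + (s : k) • (α * β) + ((s⁻¹ : kˣ) : k) • (β * α) := by
  refine (repSL_val ht _ _ _ _).trans ?_
  simp [Algebra.smul_def]

lemma gr_mem (ht : Trip α β) (s : kˣ) (hα : α ∈ RS G ξ) (hβ : β ∈ RS G η) : gr ht s ∈ RG G ξ ⊔ RG G η :=
  repK_mem ht hα hβ _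

lemma gr_symm (ht : Trip α β) (s : kˣ) : gr ht.symm s⁻¹ = gr ht s := by
  apply Units.ext; rw [gr_val, gr_val, inv_inv]; abel

lemma gr_inv (ht : Trip α β) (s : kˣ) : (gr ht s)⁻¹ = gr ht s⁻¹ := by
  rw [gr, ← map_inv, gr]; congr 1; apply ext2 <;> simp

lemma gr_congr (ht : Trip α β) (ht' : Trip α' β') (s : kˣ) (h1 : α * β = α' * β') (h2 : β * α = β' * α') :
    gr ht s = gr ht' s := by
  apply Units.ext; rw [gr_val, gr_val, h1, h2]

lemma Trip.cj (ht : Trip α β) (g : (End k M)ˣ) : Trip (cj g α) (cj g β) :=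
  ⟨by rw [← cj_mul, ht.aa, cj_zero], by rw [← cj_mul, ht.bb, cj_zero], by rw [← cj_mul, ← cj_mul, ht.aba],
    by rw [← cj_mul, ← cj_mul, ht.bab]⟩

lemma cj_one' (g : (End k M)ˣ) : cj g 1 = 1 := by simp [cj]

lemma cj_val (g h : (End k M)ˣ) : cj g h = ((g * h * g⁻¹ : (End k M)ˣ) : End k M) := rfl

lemma gr_cj (ht : Trip α β) (s : kˣ) (g : (End k M)ˣ) : g * gr ht s * g⁻¹ = gr (Trip.cj ht g) s := by
  apply Units.ext
  rw [← cj_val, gr_val, gr_val, cj_add, cj_add, cj_sub, cj_add, cj_smul, cj_smul, cj_mul, cj_mul, cj_one']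

lemma gr_left (ht : Trip α β) (s : kˣ) : (gr ht s : End k M) * α = (s : k) • α := by
  rw [gr_val, add_mul, add_mul, sub_mul, ht.gam_left, smul_mul_assoc, smul_mul_assoc, ht.aba, mul_assoc, ht.aa]; simp

lemma gr_right (ht : Trip α β) (s : kˣ) : α * (gr ht s : End k M) = ((s⁻¹ : kˣ) : k) • α := by
  rw [gr_val, mul_add, mul_add, mul_sub, ht.gam_right, mul_smul_comm, mul_smul_comm, ← mul_assoc, ← mul_assoc, ht.aba,
    ht.aa]; simp

lemma gr_poly (ht : Trip α β) (s : kˣ) : ((gr ht s : End k M) - 1) * (gr ht s - ((s⁻¹ : kˣ) : k) • 1) =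
    (((s : k) - 1) * (s - ((s⁻¹ : kˣ) : k))) • (α * β) := by
  have e : (gr ht s : End k M) - 1 = ((s : k) - 1) • (α * β) + (((s⁻¹ : kˣ) : k) - 1) • (β * α) := by
    rw [gr_val]; module
  have h1 : β * (gr ht s : End k M) = (s : k) • β := by
    rw [← gr_symm, gr_right, inv_inv]
  rw [e, add_mul, smul_mul_assoc, smul_mul_assoc, mul_sub, mul_sub, mul_assoc α β, mul_assoc β α, h1, gr_right]
  simp only [mul_smul_comm, mul_one]
  module

variable {s : kˣ} (hs : (s : k) ^ 2 ≠ 1)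
include hs

lemma sq_inv_ne : ((s⁻¹ : kˣ) : k) ^ 2 ≠ 1 := fun e => hs (by
  rw [Units.val_inv_eq_inv_val, inv_pow, inv_eq_one] at e; exact e)

lemma coef_ne : ((s : k) - 1) * (s - ((s⁻¹ : kˣ) : k)) ≠ 0 := by
  refine mul_ne_zero (sub_ne_zero.2 fun e => hs (by rw [e, one_pow])) (sub_ne_zero.2 fun e => hs ?_)
  rw [sq]; nth_rw 2 [e]; simp

lemma proj_eq (ht : Trip α β) (ht' : Trip α' β') (h : gr ht s = gr ht' s) : α * β = α' * β' ∧ β * α = β' * α' := by
  constructor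
  · apply smul_right_injective _ (coef_ne hs)
    simp only
    rw [← gr_poly ht, ← gr_poly ht', h]
  · apply smul_right_injective _ (coef_ne (sq_inv_ne hs))
    simp only
    rw [← gr_poly ht.symm, ← gr_poly ht'.symm, gr_symm ht, gr_symm ht', h]

lemma z0_iff (ht : Trip α β) : Z0 α β y ↔ cj (gr ht s) y = y := by
  rw [cj_eq_iff]
  have key : ∀ {α β : End k M} (ht : Trip α β) {s : kˣ}, (s : k) ^ 2 ≠ 1 →
      (gr ht s : End k M) * y = y * gr ht s → y * (α * β) = α * β * y := fun ht s hs h => by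
    apply smul_right_injective _ (coef_ne hs)
    simp only
    rw [← mul_smul_comm, ← smul_mul_assoc _ (_ * _) y, ← gr_poly ht]
    have c : Commute (gr ht s : End k M) y := h
    exact ((c.sub_left (Commute.one_left y)).mul_left (c.sub_left ((Commute.one_left y).smul_left _))).eq.symm
  refine ⟨fun h => ?_, fun h => ⟨key ht hs h, key ht.symm (sq_inv_ne hs) (by rwa [gr_symm])⟩⟩
  rw [gr_val]
  simp only [add_mul, mul_add, sub_mul, mul_sub, smul_mul_assoc, mul_smul_comm, h.a, h.b, one_mul, mul_one]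

lemma z0_unit_iff (ht : Trip α β) : Z0 α β (g : End k M) ↔ g * gr ht s * g⁻¹ = gr ht s := by
  rw [z0_iff hs ht, cj_eq_iff, mul_inv_eq_iff_eq_mul, Units.ext_iff, Units.val_mul, Units.val_mul, eq_comm]

lemma cent_UU (ht : Trip α β) (hu : u ∈ UU α) (h : u * gr ht s * u⁻¹ = gr ht s) : u = 1 :=
  Units.ext (sub_eq_zero.1 (pos_eq_zero ht ((pos_iff ht).1 hu) (((z0_unit_iff hs ht).2 h).sub z0_one)))

omit hs in
lemma gr_mul_inv (ht : Trip α β) (ht' : Trip α' β') (s : kˣ) (h1 : range α' = range α) (h2 : ker α' = ker α) :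
    gr ht' s * (gr ht s)⁻¹ ∈ UU α := by
  have e : ((gr ht' s * (gr ht s)⁻¹ : (End k M)ˣ) : End k M) - 1 = (gr ht' s - gr ht s) * gr ht s⁻¹ := by
    rw [← gr_inv, sub_mul, Units.val_mul, Units.mul_inv]
  have a1 : α * (gr ht' s - ((s⁻¹ : kˣ) : k) • 1) = 0 := by
    rw [mul_eq_zero_iff, ← h2, ← mul_eq_zero_iff, mul_sub, gr_right]; simp
  have a2 : ((gr ht' s : End k M) - (s : k) • 1) * α = 0 := by
    rw [mul_eq_zero_iff, ← h1, ← mul_eq_zero_iff, sub_mul, gr_left]; simp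
  have a3 : ∀ {α β : End k M} (ht : Trip α β) (s : kˣ), ∀ m ∈ ker α, (gr ht s : End k M) m - m ∈ range α := by
    intro α β ht s m hm
    refine ⟨((s : k) - 1) • β m, ?_⟩
    simp [gr_val, mem_ker.1 hm, sub_smul]
    abel
  rw [mem_UU, e]
  refine ⟨?_, ?_, fun m hm => ?_⟩
  · rw [mul_sub, mul_smul_comm, mul_one, sub_eq_zero] at a1
    rw [← mul_assoc, mul_sub, a1, gr_right]; simp
  · rw [sub_mul, smul_mul_assoc, one_mul, sub_eq_zero] at a2
    rw [mul_assoc, gr_left, mul_smul_comm, sub_mul, a2, gr_left]; simp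
  · have hm' : (gr ht s⁻¹ : End k M) m ∈ ker α := by
      rw [mem_ker, ← End.mul_apply, gr_right, LinearMap.smul_apply, mem_ker.1 hm, smul_zero]
    have := sub_mem (h1 ▸ a3 ht' s _ (h2 ▸ hm')) (a3 ht s _ hm')
    rw [End.mul_apply, LinearMap.sub_apply]
    convert this using 1; abel

omit hs in
lemma norm_UU (h1 : range (cj g α) = range α) (h2 : ker (cj g α) = ker α) (hu : u ∈ UU α) : g * u * g⁻¹ ∈ UU α :=
  UU_congr h1 h2 ▸ UU_conj hu g

omit hs in
lemma cj_gr (ht : Trip α β) (s : kˣ) : cj (gr ht s) α = ((s : k) ^ 2) • α := by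
  rw [cj, gr_left, gr_inv, smul_mul_assoc, gr_right, inv_inv, smul_smul, sq]

omit hs in
lemma gr_norm_UU (ht : Trip α β) (s : kˣ) (hu : u ∈ UU α) : gr ht s * u * (gr ht s)⁻¹ ∈ UU α := by
  refine norm_UU ?_ ?_ hu
  · rw [cj_gr, range_smul _ _ (pow_ne_zero 2 s.ne_zero)]
  · rw [cj_gr, ker_smul _ _ (pow_ne_zero 2 s.ne_zero)]

/-- `H ⊓ UU α` acts regularly on the coset of the grading element. -/
lemma reg [Finite (End k M)ˣ] (ht : Trip α β) (hH : ∀ u ∈ H, gr ht s * u * (gr ht s)⁻¹ ∈ H)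
    (h1 : g * (gr ht s)⁻¹ ∈ H) (h2 : g * (gr ht s)⁻¹ ∈ UU α) : ∃ u ∈ H, u ∈ UU α ∧ g = u * gr ht s * u⁻¹ := by
  let φ : ↥(H ⊓ UU α) → ↥(H ⊓ UU α) := fun u => ⟨u.1 * (gr ht s * u.1⁻¹ * (gr ht s)⁻¹),
    mul_mem u.2 ⟨hH _ (inv_mem u.2.1), gr_norm_UU ht s (inv_mem u.2.2)⟩⟩
  have hφ : Function.Injective φ := by
    intro u v e
    have e1 : u.1 * (gr ht s * u.1⁻¹ * (gr ht s)⁻¹) = v.1 * (gr ht s * v.1⁻¹ * (gr ht s)⁻¹) :=
      congrArg Subtype.val e
    have := cent_UU hs ht (mul_mem (inv_mem v.2.2) u.2.2) (by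
      calc _ = v.1⁻¹ * (u.1 * (gr ht s * u.1⁻¹ * (gr ht s)⁻¹)) * gr ht s * v.1 := by group
        _ = _ := by rw [e1]; group)
    exact Subtype.ext (inv_mul_eq_one.1 this).symm
  obtain ⟨u, hu⟩ := Finite.surjective_of_injective hφ ⟨_, h1, h2⟩
  refine ⟨u, u.2.1, u.2.2, ?_⟩
  have e1 : u.1 * (gr ht s * u.1⁻¹ * (gr ht s)⁻¹) = g * (gr ht s)⁻¹ := congrArg Subtype.val hu
  calc g = g * (gr ht s)⁻¹ * gr ht s := by group
    _ = _ := by rw [← e1]; group

omit hs in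
/-- a partner is determined by the grading. -/
lemma partner_eq (ht : Trip α β) (ht' : Trip α β') (h1 : α * β = α * β') (h2 : β * α = β' * α) : β = β' := by
  rw [← ht.bab, h2, mul_assoc, h1, ← mul_assoc, ht'.bab]

omit hs in
lemma partner_smul (ht : Trip α β) (hg : Z0 α β g) {c : k} (hc : c ≠ 0) (h : cj g α = c • α) : cj g β = c⁻¹ • β := by
  have h1 := cj_eq_iff.2 hg.a
  have h2 := cj_eq_iff.2 hg.b
  have h3 := (Trip.cj ht g).bab
  rw [cj_mul, h] at h1 h2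
  rw [h, h2] at h3
  rw [← h3, mul_assoc, eq_inv_smul_iff₀ hc, ← mul_smul_comm, ← smul_mul_assoc, h1, ← mul_assoc, ht.bab]

end Cfsg.Lib.EQ
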