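import Cfsg.Agent.Lib.EQ.Lin
import Cfsg.Agent.Lib.Transfer.Section
import Cfsg.Agent.Lib.PLocal.ElemAbRep
import Cfsg.Agent.Lib.PLocal.Quadratic

/-! A quadratic element lying in all invariant Sylow subgroups lies in `O_p` modulo the kernel. -/

set_option autoImplicit false

namespace Cfsg.Lib.EQ
open Cfsg.Lib.QuadPair Cfsg.Lib.Transfer Cfsg.Lib.Root Module LinearMap Subgroup
open scoped Cfsg.Lib.Transfer commutatorElement

universe u

section Grp
variable {X X' : Type*} [Group X] [Group X'] {A R N : Subgroup X} {x : X} {p : ℕ} [hp : Fact p.Prime]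

omit hp in
lemma InAll.subgroupOf (h : InAll p N R x) {Γ : Subgroup X} (hR : R ≤ Γ) (hx : x ∈ Γ) :
    InAll p (N.subgroupOf Γ) (R.subgroupOf Γ) ⟨x, hx⟩ := fun Q h1 h2 h3 => by
  obtain ⟨S, h4, h5, h6, h7, h8⟩ := h (Q.map Γ.subtype) (map_le_iff_le_comap.2 h1) (h2.map _)
    ((map_subgroupOf_eq_of_le hR).ge.trans ((map_mono h3).trans (le_normalizer_map _)))
  exact ⟨S.subgroupOf Γ, comap_mono h4, h5.comap_of_injective _ Γ.subtype_injective,
    (comap_mono h6).trans (le_normalizer_comap _), map_le_iff_le_comap.1 h7, h8⟩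

lemma InAll.map [Finite X] [Finite X'] (h : InAll p N R x) (f : X →* X') (hn : R ≤ normalizer (N : Set X))
    (hc : (Nat.card R).Coprime (Nat.card N)) (hs : Group.IsSolvable R) : InAll p (N.map f) (R.map f) (f x) :=
  fun Q h1 h2 h3 => by
  obtain ⟨T, b1, b2, b3, b4⟩ := Coprime.exists_invariant_sylowIn p (A := R) (K := N ⊓ Q.comap f)
    (Core.le_normalizer_inf hn ((map_le_iff_le_comap.1 h3).trans (le_normalizer_comap f)))
    (hc.coprime_dvd_right (card_dvd_of_le inf_le_left)) (Or.inl hs)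
  obtain ⟨S, h4, h5, h6, h7, h8⟩ := h T (b1.trans inf_le_left) b2 b4
  refine ⟨S.map f, map_mono h4, h5.map f, (map_mono h6).trans (le_normalizer_map f), ?_, mem_map_of_mem f h8⟩
  rw [← eq_of_not_dvd_relIndex_of_le (not_dvd_relIndex_map f b3) h2 (fun y hy => ?_)
    (map_le_iff_le_comap.2 (b1.trans inf_le_right))]
  · exact map_mono h7
  · obtain ⟨z, hz, rfl⟩ := h1 hy
    exact mem_map_of_mem f ⟨hz, hy⟩

lemma mem_of_pow_eq_one [Finite X] (hn : R ≤ normalizer (N : Set X)) (hc : (Nat.card R).Coprime p) (hx : x ∈ N ⊔ R)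
    (h : x ^ p = 1) : x ∈ N := by
  have h1 : N.relIndex (N ⊔ R) ∣ Nat.card R := by
    have := Coprime.card_sup_dvd hn
    rw [← card_mul_relIndex (le_sup_left : N ≤ N ⊔ R)] at this
    exact Nat.dvd_of_mul_dvd_mul_left Nat.card_pos this
  obtain ⟨g, hg, e⟩ := exists_conj_le_of_not_dvd_relIndex' (T := N) (Q := zpowers x)
    (fun e => (Nat.Prime.coprime_iff_not_dvd hp.out).1 hc.symm (e.trans h1))
    (Core.isPGroup_subgroup_iff.2 (by
      rintro _ ⟨n, rfl⟩
      exact ⟨1, by rw [pow_one, ← zpow_natCast, ← zpow_mul, mul_comm, zpow_mul, zpow_natCast, h, one_zpow]⟩))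
    (zpowers_le.2 hx)
  exact (mem_normalizer_iff.1 (sup_le le_normalizer hn hg) x).2 (conj_le_iff.1 e x (mem_zpowers x))

end Grp

variable {p : ℕ} [hp : Fact p.Prime]

lemma big_zmod (h5 : 5 ≤ p) : Big (ZMod p) :=
  big_of (by rw [ZMod.ringChar_zmod_n]; omega) (by rw [Nat.card_zmod]; omega)

lemma q0_of_mem {M : Type*} [AddCommGroup M] [Module (ZMod p) M] {G : Subgroup (End (ZMod p) M)ˣ}
    {α : End (ZMod p) M} (h : α * α = 0) (hG : un h ∈ G) : Q0 G α := by
  refine ⟨h, fun c => ?_⟩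
  have key : ∀ n : ℕ, ((un h ^ n : (End (ZMod p) M)ˣ) : End (ZMod p) M) = 1 + (n : ZMod p) • α := fun n => by
    induction n with
    | zero => simp
    | succ n ih =>
      rw [pow_succ, Units.val_mul, ih, un_val, add_mul, mul_add, mul_add, smul_mul_assoc, smul_mul_assoc, h]
      simp only [Nat.cast_add, Nat.cast_one, add_smul, one_smul, mul_one, one_mul, smul_zero, add_zero]
      abel
  rw [← ZMod.natCast_zmod_val c, ← key, coe_mem_InG]
  exact pow_mem hG _

theorem mem_pCoreOf_aux (h5 : 5 ≤ p) (n : ℕ) : ∀ (M : Type u) [AddCommGroup M] [Module (ZMod p) M] [Finite M]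
    (N R : Subgroup (End (ZMod p) M)ˣ), R ≤ normalizer (N : Set _) → Group.IsSolvable R → (Nat.card R).Coprime p →
    (Nat.card R).Coprime (Nat.card N) → ∀ x ∈ N, InAll p N R x →
    ((x : End (ZMod p) M) - 1) * ((x : End (ZMod p) M) - 1) = 0 → Nat.card N + finrank (ZMod p) M = n →
    x ∈ pCoreOf p N := by
  induction n using Nat.strong_induction_on with
  | _ n ih =>
  intro M _ _ _ N R hn hs hc hc' x hx h hq e
  have : Module.Finite (ZMod p) M := Module.Finite.of_finite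
  have : Finite (End (ZMod p) M) := Finite.of_injective _ DFunLike.coe_injective
  have ex : un hq = x := Units.ext (by simp)
  by_cases hI : IsIrreducibleFor (N ⊔ R)
  · have := eq_zero_of_inAll (big_zmod h5) (hypI_of_irr hI) (by omega : 3 ≤ p) le_sup_right le_sup_left
      (sup_le le_normalizer hn) (fun β h => mem_of_pow_eq_one hn hc h.un_mem (un_pow (by omega) _)) hs hc hc'
      (q0_of_mem hq (mem_sup_left (by rwa [ex]))) (ex ▸ h) fun H h1 h2 h3 => ex ▸ ih _ (by
        have := card_lt_of_lt h1; omega) M H R h2 hs hc (hc'.coprime_dvd_right (card_dvd_of_le h1.le)) x (ex ▸ h3)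
          (h.mono h1.le h2 (ex ▸ h3)) hq rfl
    rw [show x = 1 from Units.ext (sub_eq_zero.1 this)]
    exact one_mem _
  rw [IsIrreducibleFor, not_and_or] at hI
  rcases hI with hI | hI
  · rw [show x = 1 from Units.ext (LinearMap.ext fun m => by
      rw [not_not.1 fun e => hI ⟨m, e⟩, map_zero, map_zero])]
    exact one_mem _
  push Not at hI
  obtain ⟨W, hW, h0, h1⟩ := hI
  let ρ₁ : ↥(N ⊔ R) →* (End (ZMod p) W)ˣ := MonoidHom.toHomUnits
    { toFun := fun g => (g.1 : End (ZMod p) M).restrict (hW g g.2)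
      map_one' := rfl
      map_mul' := fun _ _ => rfl }
  let ρ₂ : ↥(N ⊔ R) →* (End (ZMod p) (M ⧸ W))ˣ := MonoidHom.toHomUnits
    { toFun := fun g => W.mapQ W (g.1 : End (ZMod p) M) (hW g g.2)
      map_one' := Submodule.linearMap_qext _ rfl
      map_mul' := fun _ _ => Submodule.linearMap_qext _ rfl }
  have : Finite (M ⧸ W) := Finite.of_surjective _ W.mkQ_surjective
  have hn' : R.subgroupOf (N ⊔ R) ≤ normalizer ((N.subgroupOf (N ⊔ R) : Subgroup _) : Set _) :=
    (comap_mono hn).trans (le_normalizer_comap _)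
  have eN : Nat.card (N.subgroupOf (N ⊔ R)) = Nat.card N := Nat.card_congr (subgroupOfEquivOfLe le_sup_left).toEquiv
  have eR : Nat.card (R.subgroupOf (N ⊔ R)) = Nat.card R := Nat.card_congr (subgroupOfEquivOfLe le_sup_right).toEquiv
  have hs' : Group.IsSolvable (R.subgroupOf (N ⊔ R)) :=
    Group.isSolvable_of_isSolvable_injective (f := (subgroupOfEquivOfLe (le_sup_right : R ≤ N ⊔ R)).toMonoidHom)
      (subgroupOfEquivOfLe _).injective
  have key : ∀ (M' : Type u) [AddCommGroup M'] [Module (ZMod p) M'] [Finite M'] (ρ : ↥(N ⊔ R) →* (End (ZMod p) M')ˣ),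
      finrank (ZMod p) M' < finrank (ZMod p) M →
      ((ρ ⟨x, mem_sup_left hx⟩ : End (ZMod p) M') - 1) * ((ρ ⟨x, mem_sup_left hx⟩ : End (ZMod p) M') - 1) = 0 →
      ρ ⟨x, mem_sup_left hx⟩ ∈ pCoreOf p ((N.subgroupOf (N ⊔ R)).map ρ) := fun M' _ _ _ ρ hlt hq' => by
    have : Finite (End (ZMod p) M') := Finite.of_injective _ DFunLike.coe_injective
    have d1 := eN ▸ card_map_dvd (N.subgroupOf (N ⊔ R)) ρ
    have d2 := eR ▸ card_map_dvd (R.subgroupOf (N ⊔ R)) ρ
    have d3 := Nat.le_of_dvd Nat.card_pos d1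
    exact ih _ (by omega) M' _ ((R.subgroupOf (N ⊔ R)).map ρ) ((map_mono hn').trans (le_normalizer_map ρ))
      (Group.isSolvable_of_surjective (ρ.subgroupMap_surjective _)) (hc.coprime_dvd_left d2)
      ((hc'.coprime_dvd_left d2).coprime_dvd_right d1) _ (mem_map_of_mem ρ hx)
      ((h.subgroupOf le_sup_right _).map ρ hn' (eN ▸ eR ▸ hc') hs') hq' rfl
  have k1 := key W ρ₁ (Submodule.finrank_lt h1) (LinearMap.ext fun w => Subtype.ext (congrArg (fun f => f w.1) hq))
  have k2 := key (M ⧸ W) ρ₂ (by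
    have := Submodule.finrank_quotient_add_finrank W
    have := Submodule.finrank_eq_zero.not.2 h0
    omega) (Submodule.linearMap_qext _ (LinearMap.ext fun m => congrArg W.mkQ (congrArg (fun f => f m) hq)))
  set Q := N.subgroupOf (N ⊔ R) ⊓ ((pCoreOf p ((N.subgroupOf (N ⊔ R)).map ρ₁)).comap ρ₁ ⊓
    (pCoreOf p ((N.subgroupOf (N ⊔ R)).map ρ₂)).comap ρ₂)
  refine Core.le_pCoreOf (K := Q.map (N ⊔ R).subtype) (map_le_iff_le_comap.2 inf_le_left)
    ((map_subgroupOf_eq_of_le le_sup_left).ge.trans ((map_mono (Core.le_normalizer_inf le_normalizer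
      (Core.le_normalizer_inf ?_ ?_))).trans (le_normalizer_map _))) (IsPGroup.map (fun y => ?_) _)
    ⟨⟨x, mem_sup_left hx⟩, ⟨hx, k1, k2⟩, rfl⟩
  · exact (map_le_iff_le_comap.1 (Core.le_normalizer_pCoreOf p _)).trans (le_normalizer_comap _)
  · exact (map_le_iff_le_comap.1 (Core.le_normalizer_pCoreOf p _)).trans (le_normalizer_comap _)
  obtain ⟨a, ha⟩ := Core.isPGroup_subgroup_iff.1 (Core.pCoreOf_isPGroup p _) _ y.2.2.1
  obtain ⟨b, hb⟩ := Core.isPGroup_subgroup_iff.1 (Core.pCoreOf_isPGroup p _) _ y.2.2.2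
  have z1 : ρ₁ (y.1 ^ p ^ (a + b)) = 1 := by rw [map_pow, pow_add, pow_mul, ha, one_pow]
  have z2 : ρ₂ (y.1 ^ p ^ (a + b)) = 1 := by rw [map_pow, add_comm, pow_add, pow_mul, hb, one_pow]
  refine ⟨a + b + 1, Subtype.ext (Subtype.ext ?_)⟩
  rw [pow_succ, pow_mul]
  change ((y.1 ^ p ^ (a + b) : ↥(N ⊔ R)) : (End (ZMod p) M)ˣ) ^ p = 1
  generalize y.1 ^ p ^ (a + b) = z at z1 z2
  refine pow_eq_one_of_cube (by omega) (LinearMap.ext fun m => ?_)
  have w1 : ∀ m, ((z.1 : End (ZMod p) M) - 1) m ∈ W := fun m =>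
    (Submodule.Quotient.eq W).1 (congrArg (fun f : (End (ZMod p) (M ⧸ W))ˣ => (f : End (ZMod p) (M ⧸ W)) (W.mkQ m)) z2)
  have w2 : ∀ m ∈ W, ((z.1 : End (ZMod p) M) - 1) m = 0 := fun m hm =>
    sub_eq_zero.2 (congrArg (fun f : (End (ZMod p) W)ˣ => ((f : End (ZMod p) W) ⟨m, hm⟩ : M)) z1)
  rw [pow_succ, pow_two, End.mul_apply, End.mul_apply, w2 _ (w1 _)]
  rfl

variable {X : Type*} [Group X] [Finite X]

/-- the linear representation on an elementary abelian normal subgroup. -/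
theorem exists_rep {V : Subgroup X} [V.Normal] (hV : IsElementaryAbelian p V) :
    ∃ (n : ℕ) (ρ : X →* (End (ZMod p) (Fin n → ZMod p))ˣ), ρ.ker = centralizer (V : Set X) ∧
      (∀ a, ⁅⁅V, zpowers a⁆, zpowers a⁆ = ⊥ → ((ρ a : End (ZMod p) (Fin n → ZMod p)) - 1) * (ρ a - 1) = 0) ∧
      (Core.IsMinNormal V → HypI ρ.range) := by
  obtain ⟨c⟩ := PLocal.nonempty_elemAbCoord hV
  have hN : ∀ g : X, g ∈ normalizer (V : Set X) := fun g => by rw [normalizer_eq_top]; trivial
  let ι : X →* normalizer (V : Set X) := (MonoidHom.id X).codRestrict _ hN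
  let ρ := ((Matrix.toLinAlgEquiv' (R := ZMod p) (n := Fin c.n)).toRingEquiv.toMonoidHom.comp (c.ρ.comp ι)).toHomUnits
  have hρ : ∀ g, (ρ g : End (ZMod p) (Fin c.n → ZMod p)) = Matrix.toLinAlgEquiv' (c.ρ (ι g)) := fun _ => rfl
  have hk : ∀ g, ρ g = 1 ↔ g ∈ centralizer (V : Set X) := fun g => by
    rw [Units.ext_iff, hρ, Units.val_one, map_eq_one_iff _ (AlgEquiv.injective _)]
    exact c.rho_eq_one_iff (ι g)
  refine ⟨c.n, ρ, Subgroup.ext hk, fun a ha => ?_, fun hm N h1 h2 h3 => ?_⟩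
  · rw [hρ, ← map_one (Matrix.toLinAlgEquiv' (R := ZMod p) (n := Fin c.n)), ← map_sub, ← map_mul,
      c.sub_one_sq_eq_zero (a := ι a) ha, map_zero]
  have : (N.comap ρ).Normal := ⟨fun n hn g => by
    rw [mem_comap, map_mul, map_mul, map_inv]; exact h2 _ ⟨g, rfl⟩ _ hn⟩
  obtain ⟨m, hm1, hm2⟩ := Submodule.exists_mem_ne_zero_of_ne_bot h3
  rcases hm.min (V ⊓ centralizer (N.comap ρ : Set X)) inferInstance inf_le_left with e | e
  · refine absurd (c.eq_one_iff.1 (mem_bot.1 (e ▸ ⟨c.mem m, fun g hg => ?_⟩))) hm2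
    have := mem_fixed.1 hm1 _ hg
    rw [hρ, Matrix.toLinAlgEquiv'_apply] at this
    have h4 := c.conj (ι g) m
    rw [this] at h4
    exact (eq_mul_inv_iff_mul_eq.1 h4).symm
  · refine eq_bot_iff.2 fun n hn => ?_
    obtain ⟨g, rfl⟩ := h1 hn
    exact (hk g).2 (le_centralizer_iff.1 (e.ge.trans inf_le_right) hn)

/-- a quadratic element on a minimal normal `p`-subgroup lying in all invariant Sylow subgroups acts trivially. -/
theorem mem_centralizer_of_inAll (h5 : 5 ≤ p) {N R V : Subgroup X} [N.Normal] (hV : Core.IsMinNormal V)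
    (hVp : IsPGroup p V) (hs : Group.IsSolvable R) (hc : (Nat.card R).Coprime p)
    (hc' : (Nat.card R).Coprime (Nat.card N)) {x : X} (hx : x ∈ N) (h : InAll p N R x)
    (hq : ⁅⁅V, zpowers x⁆, zpowers x⁆ = ⊥) : x ∈ centralizer (V : Set X) := by
  have := hV.normal
  obtain ⟨n, ρ, h1, h2, h3⟩ := exists_rep (hV.isElementaryAbelian_of_isPGroup hVp)
  have : Finite (End (ZMod p) (Fin n → ZMod p)) := Finite.of_injective _ DFunLike.coe_injective
  have d1 := card_map_dvd N ρ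
  have d2 := card_map_dvd R ρ
  have h4 := mem_pCoreOf_aux h5 _ _ (N.map ρ) (R.map ρ) ((map_mono le_normalizer_of_normal).trans (le_normalizer_map ρ))
    (Group.isSolvable_of_surjective (ρ.subgroupMap_surjective _)) (hc.coprime_dvd_left d2)
    ((hc'.coprime_dvd_left d2).coprime_dvd_right d1) _ (mem_map_of_mem ρ hx) (h.map ρ le_normalizer_of_normal hc' hs)
    (h2 x hq) rfl
  rw [pCoreOf, fixed_ne_bot_of_pgroup (h3 hV) (Core.pCoreOf_isPGroup p _) ((Core.pCoreOf_le p _).trans (map_le_range _ _))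
    (le_trans ?_ (Core.normalizer_le_normalizer_pCoreOf p _))] at h4
  · exact h1 ▸ h4
  · rw [MonoidHom.range_eq_map]
    exact (map_mono le_normalizer_of_normal).trans (le_normalizer_map ρ)

end Cfsg.Lib.EQ
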