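import Cfsg.Agent.Lib.EQ.Core
import Cfsg.Agent.Lib.Coprime.Sylow

/-! No quadratic element lies in all invariant Sylow subgroups (irreducible case, with induction hypothesis). -/

set_option autoImplicit false
set_option linter.unusedSimpArgs false

namespace Cfsg.Lib.EQ
open Cfsg.Lib.QuadPair Cfsg.Lib.Transfer Cfsg.Lib.Root Module LinearMap Polynomial
open scoped Cfsg.Lib.Transfer commutatorElement MatrixGroups

section Grp
variable {X : Type*} [Group X] {A R N : Subgroup X} {x : X} {p : ℕ}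

/-- `x` lies, with every `R`-invariant `p`-subgroup of `N`, in an `R`-invariant `p`-subgroup of `N`. -/
def InAll (p : ℕ) (N R : Subgroup X) (x : X) : Prop :=
  ∀ Q ≤ N, IsPGroup p Q → R ≤ Subgroup.normalizer (Q : Set X) →
    ∃ S ≤ N, IsPGroup p S ∧ R ≤ Subgroup.normalizer (S : Set X) ∧ Q ≤ S ∧ x ∈ S

lemma InAll.mono (h : InAll p N R x) {H : Subgroup X} (hH : H ≤ N) (hR : R ≤ Subgroup.normalizer (H : Set X))
    (hx : x ∈ H) : InAll p H R x := fun Q h1 h2 h3 => by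
  obtain ⟨S, -, h4, h5, h6, h7⟩ := h Q (h1.trans hH) h2 h3
  exact ⟨S ⊓ H, inf_le_right, h4.to_le inf_le_left, Core.le_normalizer_inf h5 hR, le_inf h6 h1, h7, hx⟩

lemma iSup_conj_le_normalizer (h : ∀ r ∈ R, r ⋆ A ≤ Subgroup.normalizer (A : Set X)) (r : R) :
    ⨆ r : R, (r : X) ⋆ A ≤ Subgroup.normalizer (((r : X) ⋆ A : Subgroup X) : Set X) := iSup_le fun r' => by
  rw [← conj_normalizer, le_conj_iff_inv_conj_le, conj_conj]
  exact h _ (mul_mem (inv_mem r.2) r'.2)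

lemma isPGroup_iSup_conj (hA : IsPGroup p A) (h : ∀ r ∈ R, r ⋆ A ≤ Subgroup.normalizer (A : Set X)) :
    IsPGroup p ↥(⨆ r : R, (r : X) ⋆ A) :=
  (Core.pCoreOf_isPGroup p (⨆ r : R, (r : X) ⋆ A)).to_le (iSup_le fun r =>
    Core.le_pCoreOf (le_iSup (fun r : R => (r : X) ⋆ A) r) (iSup_conj_le_normalizer h r) (isPGroup_conj hA _))

lemma coprime_iSup_conj [Finite X] (hA : (Nat.card A).Coprime p) (h : ∀ r ∈ R, r ⋆ A ≤ Subgroup.normalizer (A : Set X)) :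
    (Nat.card ↥(⨆ r : R, (r : X) ⋆ A)).Coprime p :=
  Core.coprime_of_le (iSup_le fun r => Core.le_pPrimeCoreOf (le_iSup (fun r : R => (r : X) ⋆ A) r)
    (iSup_conj_le_normalizer h r) (by rwa [card_conj])) (Core.pPrimeCoreOf_coprime p (⨆ r : R, (r : X) ⋆ A))

end Grp

variable {k : Type*} [Field k] {M : Type*} [AddCommGroup M] [Module k M]
variable {G H D S T R N : Subgroup (End k M)ˣ} {α β α' β' χ υ δ ρ ρ' ξ η x y l l' : End k M} {g u v : (End k M)ˣ}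
variable {p : ℕ} [hp : Fact p.Prime]

/-- the elements multiplying `y` by a scalar. -/
def Sc (y : End k M) : Subgroup (End k M)ˣ where
  carrier := {g | ∃ c : k, c ≠ 0 ∧ cj g y = c • y}
  one_mem' := ⟨1, one_ne_zero, by simp⟩
  mul_mem' := by
    rintro g h ⟨c, hc, e⟩ ⟨d, hd, e'⟩
    exact ⟨d * c, mul_ne_zero hd hc, by rw [← cj_cj, e', cj_smul, e, smul_smul]⟩
  inv_mem' := by
    rintro g ⟨c, hc, e⟩
    exact ⟨c⁻¹, inv_ne_zero hc, by rw [eq_inv_smul_iff₀ hc, ← cj_smul, ← e, cj_inv_cj]⟩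

/-- the elements fixing `y`. -/
def Fx (y : End k M) : Subgroup (End k M)ˣ where
  carrier := {g | cj g y = y}
  one_mem' := cj_one y
  mul_mem' {g h} e e' := by rw [Set.mem_ofPred_eq, ← cj_cj, e', e]
  inv_mem' := cj_inv_eq

omit hp in
lemma comm_iff_cj (h : α * α = 0) : g * un h = un h * g ↔ cj g α = α := by
  rw [cj_eq_iff, Units.ext_iff, Units.val_mul, Units.val_mul, un_val, mul_add, add_mul, mul_one, one_mul, add_right_inj]

variable [FiniteDimensional k M] (hk : Big k) (hI : HypI G)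
include hk hI

omit hp in
lemma conj_mem_comp (hg : g ∈ RT G ⊔ CJ G) (hχ : Qd G χ) : g ⋆ RG G χ ∈ comp (quadraticRootSubgroups G) (RG G χ) := by
  obtain ⟨a, ha, c, hc, rfl⟩ := (cm_CJ hk hI).exists_mul hg
  rw [← conj_conj, ((cm_CJ hk hI).symm.mono le_rfl (RG_le_RT hχ)).conj_eq hc]
  exact (lrs_roots hk hI).comp_conj (comp_self hχ.root) ha

variable [Finite M] [Finite (End k M)ˣ] [Finite k] [CharP k p] (h3 : 3 ≤ p)
include h3

omit [Finite M] in
lemma comm_of_inAll (hχ : Qd G χ) (hυ : Qd G υ) (ht : Trip χ υ) (hR : R ≤ G) (hN : N ≤ G) (hN' : RT G ≤ N)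
    (hn : R ≤ Subgroup.normalizer (N : Set (End k M)ˣ))
    (hd : ∀ r ∈ R, (r ∈ Subgroup.normalizer (CG G χ : Set (End k M)ˣ) ∧ Z0 χ υ r) ∨ Cm (r ⋆ CG G χ) (CG G χ))
    (hα : Q0 G α) (h : InAll p N R (un hα.sq)) {r : (End k M)ˣ} (hr : r ∈ R) (hξ : ξ ∈ RS G χ) :
    cj r α * ξ = ξ * cj r α := by
  obtain ⟨S, h1, h2, h4, h5, h6⟩ := h (⨆ r : R, (r : (End k M)ˣ) ⋆ (CG G χ ⊓ UU χ))
    (Core.iSup_conj_le (inf_le_left.trans (comp_le.trans hN')) hn)
    (isPGroup_iSup_conj ((isPGroup_UU h3).to_le inf_le_right) fun r hr => by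
      rcases hd r hr with e | e
      · refine le_trans (conj_le_iff.2 fun u hu => ?_) Subgroup.le_normalizer
        exact ⟨(Subgroup.mem_normalizer_iff.1 e.1 u).1 hu.1, e.2.norm_UU ht hu.2⟩
      · exact (e.mono (conj_mono r inf_le_left) inf_le_left).le_normalizer)
    (Core.le_normalizer_iSup_conj _ _)
  have hc := hα.conj (hR hr)
  have e : un hc.sq = r * un hα.sq * r⁻¹ := Units.ext (by rw [← cj_val, un_val, un_val, cj_add, cj_one'])
  refine comm_of_norm hk hχ hc.sq (conj_eq_self_iff.2 (le_normalizer_RG hk hI hχ hυ ht h3 (S := S ⊓ (RT G ⊔ CJ G))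
    (h2.to_le inf_le_left) (inf_le_left.trans (h1.trans hN)) (le_inf ((Core.le_iSup_conj _ _).trans h5)
      (inf_le_left.trans (comp_le.trans le_sup_left))) (fun g hg => conj_mem_comp hk hI hg.2 hχ)
    ⟨e ▸ (Subgroup.mem_normalizer_iff.1 (h4 hr) _).1 h6, mem_sup_CJ hk (by simpa using hc)⟩)) hc.un_mem hξ

theorem eq_zero_of_inAll (hR : R ≤ G) (hN : N ≤ G) (hn : G ≤ Subgroup.normalizer (N : Set (End k M)ˣ))
    (hq : ∀ β (h : Q0 G β), un h.sq ∈ N) (hs : Group.IsSolvable R) (hc : (Nat.card R).Coprime p)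
    (hc' : (Nat.card R).Coprime (Nat.card N)) (hα : Q0 G α) (h : InAll p N R (un hα.sq))
    (ih : ∀ H < N, R ≤ Subgroup.normalizer (H : Set (End k M)ˣ) → un hα.sq ∈ H → un hα.sq ∈ pCoreOf p H) : α = 0 := by
  by_contra h0
  have hN' : RT G ≤ N := iSup₂_le fun A hA g hg => by
    obtain ⟨ρ, -, rfl⟩ := mem_roots_iff.1 hA
    have := hq _ (RS_q0 hg)
    rwa [show un (RS_q0 hg).sq = g from Units.ext (by simp)] at this
  by_cases hJ : α ∈ JJ G
  · have hG : G ≤ Subgroup.normalizer ((N ⊓ Subgroup.centralizer (RT G : Set (End k M)ˣ) : Subgroup (End k M)ˣ) : Set _) :=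
      Core.le_normalizer_inf hn (Core.le_normalizer_centralizer fun g hg => mem_normalizer_of_conj_le
        (conj_le_iff.2 fun u hu => iSup_conj_mem (fun A hA => roots_conj hA hg) hu))
    obtain ⟨χ, hχ⟩ := exists_qd hα h0
    obtain ⟨υ, hυ, ht⟩ := exists_trip' hk hI hχ
    have h1 := ih _ (lt_of_le_of_ne inf_le_left fun e => hχ.ne (by
      have := (e.ge (hq χ hχ.toQ0)).2 _ (RG_le_RT hυ (un_mem_RG hυ.toQ0.mem_RS))
      rw [comm_iff_cj, cj_un_iff] at this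
      rw [← ht.aba, this, mul_assoc, ht.aa, mul_zero])) (hR.trans hG)
      ⟨hq α hα, cm_iff_le.1 (cm_CJ hk hI).symm (Subgroup.subset_closure ⟨by simpa using hα, by simpa using hJ⟩)⟩
    rw [pCoreOf, fixed_ne_bot_of_pgroup hI (Core.pCoreOf_isPGroup p _) ((Core.pCoreOf_le p _).trans (inf_le_left.trans hN))
      (hG.trans (Core.normalizer_le_normalizer_pCoreOf p _))] at h1
    exact un_ne_one _ h0 h1
  obtain ⟨ξ, hξ, hξq⟩ := exists_root_mem hk hα hJ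
  obtain ⟨χ, υ, hχ, hυ, ht, e0, hd⟩ := exists_fixed_pair hk hI h3 hξq hR hs hc
    (hc'.coprime_dvd_right (Subgroup.card_dvd_of_le hN'))
  have e1 := CG_eq hk hI hχ hυ ht
  have c1 : ∀ r ∈ R, ∀ ζ ∈ RS G χ, cj r α * ζ = ζ * cj r α := fun r hr ζ hζ =>
    comm_of_inAll hk hI h3 hχ hυ ht hR hN hN' (hR.trans hn) hd hα h hr hζ
  have c2 : ∀ r ∈ R, ∀ ζ ∈ RS G υ, cj r α * ζ = ζ * cj r α := fun r hr ζ hζ =>
    comm_of_inAll hk hI h3 hυ hχ ht.symm hR hN hN' (hR.trans hn)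
      (fun r hr => e1 ▸ (hd r hr).imp_left fun e => ⟨e.1, e.2.symm⟩) hα h hr hζ
  obtain ⟨a, ha0, ha⟩ := hk.ex
  set s : kˣ := Units.mk0 a ha0
  have hs : (s : k) ^ 2 ≠ 1 := ha
  have hg : gr ht s ∈ CG G χ :=
    sup_le (RG_le_CG hχ) (e1 ▸ RG_le_CG hυ) (gr_mem _ _ hχ.toQ0.mem_RS hυ.toQ0.mem_RS)
  have hd' : ∀ r ∈ R, r * gr ht s * r⁻¹ = gr ht s ∨ ∀ u ∈ CG G χ, r * gr ht s * r⁻¹ * u = u * (r * gr ht s * r⁻¹) :=
    fun r hr => (hd r hr).imp (fun e => (z0_unit_iff hs ht).1 e.2) fun e => e _ (conj_mem_conj.2 hg)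
  set T := ⨆ r : R, (r : (End k M)ˣ) ⋆ Subgroup.zpowers (gr ht s) with hT
  have hTle : ∀ {L : Subgroup (End k M)ˣ}, (∀ r ∈ R, r * gr ht s * r⁻¹ ∈ L) → T ≤ L := fun h =>
    iSup_le fun r => by rw [conj_zpowers]; exact Subgroup.zpowers_le.2 (h r r.2)
  have hTG : T ≤ G := hTle fun r hr => mul_mem (mul_mem (hR hr) (CG_le hg)) (inv_mem (hR hr))
  have hTc : (Nat.card T).Coprime p := coprime_iSup_conj (by rw [Nat.card_zpowers]; exact coprime_gr ht s) fun r hr => by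
    rw [conj_zpowers, Subgroup.zpowers_le]
    rcases hd' r hr with e | e
    · rw [e]; exact Subgroup.le_normalizer (Subgroup.mem_zpowers _)
    · exact Subgroup.centralizer_le_normalizer _ (Subgroup.le_centralizer_iff.1
        (Subgroup.zpowers_le.2 (Subgroup.mem_centralizer_iff.2 fun u hu => by
          obtain ⟨n, rfl⟩ := hu
          exact (Commute.zpow_left (e _ hg) n).eq)) (Subgroup.mem_zpowers _))
  have hTα : T ≤ Fx α := hTle fun r hr => by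
    have := (z0_iff hs ht).1 (z0_of_comm (c1 _ (inv_mem hr) _ hχ.toQ0.mem_RS) (c2 _ (inv_mem hr) _ hυ.toQ0.mem_RS))
    change cj _ α = α
    rw [← cj_cj, ← cj_cj, this, cj_cj_inv]
  have hK : ∀ ε (h : Q0 G ε), T ≤ Fx ε → un h.sq ∈ N ⊓ Subgroup.centralizer (T : Set (End k M)ˣ) := fun ε h e =>
    ⟨hq ε h, fun τ hτ => (comm_iff_cj h.sq).2 (e hτ)⟩
  have h1 := ih _ (lt_of_le_of_ne inf_le_left fun e => ?_) (Core.le_normalizer_inf (hR.trans hn)
    (Core.le_normalizer_centralizer (Core.le_normalizer_iSup_conj _ _))) (hK α hα hTα)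
  swap
  · have := (e.ge (hq χ hχ.toQ0)).2 _ (Core.le_iSup_conj _ R (Subgroup.mem_zpowers (gr ht s)))
    rw [comm_iff_cj, cj_gr, ← sub_eq_zero] at this
    nth_rw 2 [← one_smul k χ] at this
    rw [← sub_smul, smul_eq_zero_iff_left hχ.ne, sub_eq_zero] at this
    exact hs this
  have nil : ∀ ε (h : Q0 G ε), T ≤ Fx ε → IsNilpotent (α * ε) ∧ IsNilpotent (ε * α) := fun ε h e => by
    have hP := Core.isPGroup_sup_pCoreOf (p := p) (K := Subgroup.zpowers (un h.sq))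
      ((Subgroup.zpowers_le.2 (hK ε h e)).trans Subgroup.le_normalizer)
      (Core.isPGroup_subgroup_iff.2 (by
        rintro _ ⟨n, rfl⟩
        exact ⟨1, by rw [pow_one, ← zpow_natCast, ← zpow_mul, mul_comm, zpow_mul, zpow_natCast, un_pow h3, one_zpow]⟩))
    have a2 := Subgroup.mem_sup_right (S := Subgroup.zpowers (un h.sq)) h1
    exact ⟨by simpa using nilpotent_of_pgroup hP a2 (Subgroup.mem_sup_left (Subgroup.mem_zpowers _)),
      by simpa using nilpotent_of_pgroup hP (Subgroup.mem_sup_left (Subgroup.mem_zpowers _)) a2⟩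
  have final : ∀ l, Qd G l → l ∈ RS G α → T ≤ Sc l →
      (∀ l', Qd G l' → Trip l l' → (∀ τ ∈ T, Z0 l l' τ) → IsNilpotent (l' * α)) → False := fun l b1 b2 b3 b4 => by
    obtain ⟨l', b5, b6, b7⟩ := exists_fixed_partner h3 hk hI b1 hTG hTc fun τ hτ => by
      obtain ⟨c, -, e⟩ := b3 hτ
      exact e ▸ (RS G l).smul_mem c b1.toQ0.mem_RS
    obtain ⟨ε, b8, b9, e⟩ := exists_eps hk hI h3 hTG hTc hα hTα b1 b5 b6 b2 b7 b3
      (nil_of_nilpotent hk b5 hα (b4 l' b5 b6 b7))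
    exact b5.ne (eq_zero_of_nil (nil ε b8 b9).1 e)
  have hu : ∀ ζ (h : Qd G ζ), RG G ζ ≤ CG G χ → ∀ r ∈ R, r * gr ht s * r⁻¹ = gr ht s ∨ cj (r * gr ht s * r⁻¹) ζ = ζ :=
    fun ζ h e r hr => (hd' r hr).imp_right fun e' => (comm_iff_cj h.sq).1 (e' _ (e (un_mem_RG h.toQ0.mem_RS)))
  have one : ∀ {χ' υ' : End k M} (ht' : Trip χ' υ') (s' : kˣ), (s' : k) ^ 2 ≠ 1 → gr ht' s' = gr ht s → Qd G χ' →
      Qd G υ' → CG G χ' = CG G χ → (∀ ζ ∈ RS G χ', α * ζ = ζ * α) → (∀ ζ ∈ RS G υ', α * ζ = ζ * α) →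
      χ' * ξ = ξ * χ' := fun {χ' υ'} ht' s' hs' e b1 b2 b3 b4 b5 => by
    by_contra hne
    obtain ⟨d1, d2, d3, d4⟩ := comm_root hk b1 b2 ht' hα.sq b4 b5 hξ hξq (sub_ne_zero.2 hne)
    refine final _ d1 d2 (hTle fun r hr => ?_) fun l' _ d6 d7 => ?_
    · rcases hu _ d1 (b3 ▸ le_iSup_mem (mem_comp_of_not_z0 hk hI b1 b2 ht' d1 fun e =>
        d1.ne (pos_eq_zero ht' d3 e))) r hr with e' | e'
      · exact ⟨s', s'.ne_zero, by rw [e', ← e, cj_gr_one ht' s' d3 d4]⟩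
      · exact ⟨1, one_ne_zero, by rw [e', one_smul]⟩
    · have d8 := d7 _ (Core.le_iSup_conj _ R (Subgroup.mem_zpowers (gr ht s)))
      rw [← e] at d8
      exact pos_nil (pos_mul_right' ht'.symm (partner_pos ht' d6 d3 d4 ((z0_iff hs' ht').2 (cj_eq_iff.2 d8.a))
        ((z0_iff hs' ht').2 (cj_eq_iff.2 d8.b))).1 (b5 _ b2.toQ0.mem_RS))
  have c3 := c1 1 (one_mem _)
  have c4 := c2 1 (one_mem _)
  rw [cj_one] at c3 c4
  have hξT : T ≤ Fx ξ := hTle fun r hr => (hu ξ hξq (e0 ▸ RG_le_CG hξq) r hr).elim (fun e => by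
    rw [e]
    exact (z0_iff hs ht).1 (z0_of_comm (one ht s hs rfl hχ hυ rfl c3 c4).symm
      (one ht.symm s⁻¹ (sq_inv_ne hs) (gr_symm ht s) hυ hχ e1 c4 c3).symm)) id
  refine final ξ hξq hξ (fun τ hτ => ⟨1, one_ne_zero, by rw [one_smul]; exact hξT hτ⟩) fun l' b1 b2 b3 =>
    (nil l' b1.toQ0 fun τ hτ => ?_).2
  change cj τ l' = l'
  simpa using partner_smul b2 (b3 τ hτ) one_ne_zero (by rw [one_smul]; exact hξT hτ)

end Cfsg.Lib.EQ
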