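import Cfsg.Agent.Lib.EQ.Grade
import Cfsg.Agent.Lib.Core.PPrimeCore

/-! Opposite partners fixed by coprime groups, unipotence of `p`-groups, quadratic normalisers of root groups. -/

set_option autoImplicit false
set_option linter.unusedSimpArgs false

namespace Cfsg.Lib.EQ
open Cfsg.Lib.QuadPair Cfsg.Lib.Transfer Cfsg.Lib.Root Module LinearMap Polynomial
open scoped Cfsg.Lib.Transfer commutatorElement MatrixGroups

variable {k : Type*} [Field k] {M : Type*} [AddCommGroup M] [Module k M]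
variable {G H D : Subgroup (End k M)ˣ} {α β α' β' χ υ δ ξ η x y : End k M} {g u : (End k M)ˣ}
variable {p : ℕ} [hp : Fact p.Prime]

lemma pow_eq_one_of_cube [CharP k p] (h3 : 3 ≤ p) (h : ((g : End k M) - 1) ^ 3 = 0) : g ^ p = 1 := by
  apply Units.ext
  obtain ⟨r, hr⟩ := (Commute.one_left ((g : End k M) - 1)).exists_add_pow_prime_eq hp.out
  have h0 : (p : End k M) = 0 := by rw [← map_natCast (algebraMap k (End k M)), CharP.cast_eq_zero, map_zero]
  rw [add_sub_cancel, h0, pow_eq_zero_of_le h3 h] at hr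
  simpa using hr

lemma isPGroup_UU [CharP k p] (h3 : 3 ≤ p) : IsPGroup p (UU α) := fun g => by
  refine ⟨1, Subtype.ext ?_⟩
  rw [pow_one, Subgroup.coe_pow, OneMemClass.coe_one]
  refine pow_eq_one_of_cube h3 (LinearMap.ext fun m => ?_)
  obtain ⟨h1, h2, h4⟩ := mem_UU.1 g.2
  have := mul_eq_zero_iff.1 h2 (h4 _ (mul_eq_zero_iff.1 h1 ⟨m, rfl⟩))
  simpa [pow_succ] using this

lemma un_pow [CharP k p] (h3 : 3 ≤ p) (h : α * α = 0) : un h ^ p = 1 :=
  pow_eq_one_of_cube h3 (by simp [pow_succ, h])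

lemma exists_fixed_mod [CharP k p] [Finite M] (hH : IsPGroup p H) {N : Submodule k M}
    (hN : ∀ g ∈ H, N ≤ N.comap (g : End k M)) (hne : N ≠ ⊤) : ∃ v ∉ N, ∀ g ∈ H, (g : End k M) v - v ∈ N := by
  have : Finite (M ⧸ N) := Finite.of_surjective _ N.mkQ_surjective
  let _ : MulAction H (M ⧸ N) :=
    { smul := fun g => N.mapQ N (g.1 : End k M) (hN g g.2)
      one_smul := fun v => by
        obtain ⟨v, rfl⟩ := N.mkQ_surjective v
        rfl
      mul_smul := fun g h v => by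
        obtain ⟨v, rfl⟩ := N.mkQ_surjective v
        rfl }
  have hs : ∀ (g : H) (v : M), g • N.mkQ v = N.mkQ ((g.1 : End k M) v) := fun _ _ => rfl
  obtain ⟨w, hw⟩ : ∃ w, w ∉ N := by
    by_contra h
    exact hne (eq_top_iff.2 fun w _ => not_not.1 fun e => h ⟨w, e⟩)
  have hd : p ∣ Nat.card (M ⧸ N) := by
    have : addOrderOf (N.mkQ w) = p := addOrderOf_eq_prime (by
      rw [← Nat.cast_smul_eq_nsmul k, CharP.cast_eq_zero, zero_smul]) (fun e => hw ((Submodule.Quotient.mk_eq_zero N).1 e))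
    exact this ▸ addOrderOf_dvd_natCard _
  obtain ⟨v, hv, h0⟩ := hH.exists_fixed_point_of_prime_dvd_card_of_fixed_point (M ⧸ N) hd (a := 0)
    (fun g => map_zero (N.mapQ N (g.1 : End k M) (hN g g.2)))
  obtain ⟨v, rfl⟩ := N.mkQ_surjective v
  refine ⟨v, fun e => h0 ((Submodule.Quotient.mk_eq_zero N).2 e).symm, fun g hg => ?_⟩
  exact (Submodule.Quotient.eq N).1 (hv ⟨g, hg⟩)

lemma uni_of_pgroup [CharP k p] [Finite M] (hH : IsPGroup p H) : Uni k H := by
  let C : ℕ →o Submodule k M :=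
    ⟨fun n => ⨅ y ∈ aug k H ^ n, ker y, monotone_nat_of_le_succ fun n => le_iInf₂ fun y hy m hm => by
      rw [pow_succ'] at hy
      refine Submodule.mul_induction_on hy (fun a _ b hb => ?_) fun a b ha hb => ?_
      · rw [mem_ker, End.mul_apply, mem_ker.1 ((Submodule.mem_iInf _).1 ((Submodule.mem_iInf _).1 hm b) hb), map_zero]
      · rw [mem_ker, LinearMap.add_apply, mem_ker.1 ha, mem_ker.1 hb, add_zero]⟩
  have hC : ∀ n m, m ∈ C n ↔ ∀ y ∈ aug k H ^ n, y m = 0 := fun n m => by simp [C]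
  have h1 : ∀ n m, m ∈ C (n + 1) ↔ ∀ g ∈ H, (g : End k M) m - m ∈ C n := fun n m => by
    rw [hC, pow_succ]
    refine ⟨fun h g hg => (hC _ _).2 fun y hy => h _ (Submodule.mul_mem_mul hy (sub_one_mem_aug hg)), fun h y hy => ?_⟩
    refine Submodule.mul_induction_on hy (fun a ha b hb => ?_) fun a b ha hb => ?_
    · have : aug k H ≤ (C n).comap (LinearMap.applyₗ m) := aug_le_iff.2 h
      exact (hC _ _).1 (this hb) a ha
    · rw [LinearMap.add_apply, ha, hb, add_zero]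
  obtain ⟨n, hn⟩ := WellFoundedGT.monotone_chain_condition C
  refine ⟨aug_mul_le H, n, eq_bot_iff.2 fun y hy => LinearMap.ext fun m => (hC n m).1 ?_ y hy⟩
  by_contra hm
  obtain ⟨v, hv, h⟩ := exists_fixed_mod hH (N := C n) (fun g hg m hm => by
    have := add_mem ((h1 n m).1 (C.monotone n.le_succ hm) g hg) hm
    simpa using this) (fun e => hm (e ▸ trivial))
  exact hv ((hn (n + 1) n.le_succ).symm ▸ (h1 n v).2 h)

lemma nilpotent_of_pgroup [CharP k p] [Finite M] (hH : IsPGroup p H) (hg : g ∈ H) (hu : u ∈ H) :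
    IsNilpotent (((g : End k M) - 1) * ((u : End k M) - 1)) := by
  obtain ⟨hm, n, hn⟩ := uni_of_pgroup (k := k) hH
  have := Submodule.pow_mem_pow _ (hm (Submodule.mul_mem_mul (sub_one_mem_aug (k := k) hg) (sub_one_mem_aug (k := k) hu))) n
  rw [hn] at this
  exact ⟨n, this⟩

lemma fixed_ne_bot_of_pgroup [CharP k p] [Finite M] (hI : HypI G) (hH : IsPGroup p H) (hle : H ≤ G)
    (hn : G ≤ Subgroup.normalizer (H : Set (End k M)ˣ)) : H = ⊥ :=
  hI.eq_bot_of_uni hle (fun _ hg n h => (Subgroup.mem_normalizer_iff.1 (hn hg) n).1 h) (uni_of_pgroup hH)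

omit hp in
lemma eq_zero_of_nil (h : IsNilpotent x) (e : y * x = -y) : y = 0 := by
  obtain ⟨n, hn⟩ := h
  have key : ∀ n : ℕ, y * (-x) ^ n = y := fun n => by
    induction n with
    | zero => simp
    | succ n ih => rw [pow_succ', ← mul_assoc, mul_neg, e, neg_neg, ih]
  rw [← key n, neg_pow, hn]; simp

omit hp

variable [FiniteDimensional k M]

lemma mem_top (hk : Big k) (hα : Q0 G α) (hβ : Q0 G β) : α * β * α ∈ RS G α := by
  have h1 := hα.key hk hβ X
  rwa [aeval_X, mul_gam hα.sq] at h1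

lemma nil_of_nilpotent (hk : Big k) (hα : Qd G α) (hβ : Q0 G β) (h : IsNilpotent (α * β)) : α * β * α = 0 := by
  by_contra h0
  obtain ⟨r, hr⟩ := exists_inv_poly hk hα hβ h0
  have c1 := comm_aeval hα.sq β r
  set ρ := aeval (α * β + β * α) r
  obtain ⟨n, hn⟩ := h
  have key : ∀ n : ℕ, (α * β) ^ n * α * ρ ^ n = α := fun n => by
    induction n with
    | zero => simp
    | succ n ih =>
      calc (α * β) ^ (n + 1) * α * ρ ^ (n + 1) = (α * β) ^ n * (α * β * α * ρ) * ρ ^ n := by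
            rw [pow_succ, pow_succ']; simp only [mul_assoc]
        _ = α := by rw [hr, ih]
  exact hα.ne (by rw [← key n, hn]; simp)

/-- a quadratic element normalising a root group centralises it. -/
lemma comm_of_norm (hk : Big k) (hχ : Qd G χ) (hα : α * α = 0) (h : un hα ⋆ RG G χ = RG G χ) (hG : un hα ∈ G)
    (hξ : ξ ∈ RS G χ) : α * ξ = ξ * α := by
  have key : ∀ {g : (End k M)ˣ}, g ∈ G → g ⋆ RG G χ = RG G χ → ∀ ξ ∈ RS G χ, cj g ξ ∈ RS G χ := fun {g} hg h ξ hξ => by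
    have := conj_mem_conj (g := g).2 (un_mem_RG hξ)
    rwa [h, mem_RG, ← cj_sub_one, un_val, add_sub_cancel_left] at this
  have hD : ∀ ξ ∈ RS G χ, α * ξ - ξ * α ∈ RS G χ := fun ξ hξ => by
    have := (RS G χ).smul_mem (2 : k)⁻¹ (sub_mem (key hG h ξ hξ)
      (key (inv_mem hG) (conj_eq_iff_eq_inv_conj.1 h).symm ξ hξ))
    rw [cj_of_eq (α := α) (by simp) hα, cj_inv_of_eq (α := α) (by simp) hα] at this
    convert this using 1
    rw [eq_inv_smul_iff₀ hk.two, two_smul]; abel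
  have a1 : ∀ x, α * (α * x) = 0 := fun x => by rw [← mul_assoc, hα, zero_mul]
  have h2 : ∀ ξ ∈ RS G χ, α * ξ * α = 0 → α * ξ = ξ * α := fun ξ hξ h0 => by
    by_contra hne
    have hm := hχ.RS_eq (hD ξ hξ) (sub_ne_zero.2 hne) ▸ hξ
    rw [RS_left hm (by rw [mul_sub, a1, ← mul_assoc, h0, sub_zero]),
      RS_right hm (by rw [sub_mul, h0, mul_assoc, hα, mul_zero, sub_zero])] at hne
    exact hne rfl
  refine h2 ξ hξ ?_
  have := h2 _ (hD ξ hξ) (by simp only [mul_sub, sub_mul, mul_assoc, a1, hα, mul_zero, zero_mul, sub_self])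
  simp only [mul_sub, sub_mul, mul_assoc, a1, hα, mul_zero, zero_sub, sub_zero] at this
  apply smul_right_injective _ hk.two
  simp only [two_smul, mul_assoc, add_zero]
  nth_rw 1 [← this]; abel

omit [FiniteDimensional k M] in
/-- the partner of an element of weight one has weight minus one. -/
lemma partner_pos (ht : Trip χ υ) (hl : Trip α β) (hp : Pos χ υ α) (h2 : top2 χ υ α = 0) (h1 : Z0 χ υ (α * β))
    (h0 : Z0 χ υ (β * α)) : Pos υ χ β ∧ χ * β * χ = 0 := by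
  obtain ⟨a1, a2, a3, a4, a5, a6, a7, a8, a9⟩ := hp.rules ht
  have b1 : β * (υ * χ) = 0 := by
    rw [← hl.bab, mul_assoc β, mul_assoc β, h1.b, mul_assoc υ, a7, mul_zero, mul_zero]
  have b2 : χ * υ * β = 0 := by
    rw [← hl.bab, ← mul_assoc, ← h0.a, mul_assoc β, a8 υ, mul_zero, zero_mul]
  have b3 : β * υ = 0 := by rw [← ht.bab, ← mul_assoc, b1, zero_mul]
  have b4 : υ * β = 0 := by rw [← ht.bab, mul_assoc υ, mul_assoc υ, b2, mul_zero]
  set e := χ * υ with he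
  set f := υ * χ with hf
  have c1 : α * e = 0 := a8 υ
  have c2 : f * α = 0 := by rw [hf, mul_assoc, hp.l, mul_zero]
  have c3 : e * α * f = 0 := h2
  have c4 : (1 - (e + f)) * α * (1 - (e + f)) = 0 := hp.m
  have c5 : e * e = e := by rw [he, ← mul_assoc, ht.aba]
  have c6 : f * f = f := by rw [hf, ← mul_assoc, ht.bab]
  have c7 : e * f = 0 := by rw [he, hf, mul_assoc, a2, mul_zero]
  have c8 : f * e = 0 := by rw [he, hf, mul_assoc, a1, mul_zero]
  have key : ∀ y, Z0 χ υ y → (1 - (e + f)) * y = y * (1 - (e + f)) := fun y h => by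
    rw [sub_mul, mul_sub, add_mul, mul_add, h.a, h.b, one_mul, mul_one]
  have d1 : α = e * α + α * f := by
    have : e * α * f = χ * (υ * (α * f)) := by simp only [he, mul_assoc]
    rw [← this, c3, sub_zero, ← mul_assoc] at a9
    exact a9
  have d2 : α * (1 - (e + f)) = e * α := by
    rw [mul_sub, mul_add, c1, mul_one]; nth_rw 1 [d1]; simp
  refine ⟨⟨b4, b3, ?_⟩, ?_⟩
  · rw [add_comm]
    calc (1 - (e + f)) * β * (1 - (e + f)) = (1 - (e + f)) * (β * α) * β * (1 - (e + f)) := by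
          rw [mul_assoc _ (β * α), hl.bab]
      _ = β * (e * (α * β) * (1 - (e + f))) := by rw [key _ h0, mul_assoc β α, d2]; simp only [mul_assoc]
      _ = 0 := by rw [← h1.a, mul_assoc _ e, mul_sub, mul_add, c5, c7]; simp
  · have d3 : α * f = (1 - (e + f)) * α := by
      rw [sub_mul, add_mul, c2, one_mul]; nth_rw 2 [d1]; simp
    have d4 : f * β * e = 0 :=
      calc f * β * e = f * (β * α) * β * e := by rw [mul_assoc _ (β * α), hl.bab]
        _ = β * ((1 - (e + f)) * (α * β * e)) := by rw [← h0.b, mul_assoc β α, d3]; simp only [mul_assoc]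
        _ = 0 := by rw [h1.a, ← mul_assoc _ e, sub_mul, add_mul, c5, c8]; simp
    calc χ * β * χ = χ * (f * β * e) * χ := by
          have : χ * (υ * χ) = χ := a5
          simp only [hf, he, mul_assoc, a3, this]
      _ = 0 := by rw [d4]; simp

variable [Finite (End k M)ˣ] {s : kˣ} (hs : (s : k) ^ 2 ≠ 1)

omit [FiniteDimensional k M] in
include hs in
lemma exists_trans (ht : Trip α β) (ht' : Trip α' β') (h1 : range α' = range α) (h2 : ker α' = ker α)
    (hH : gr ht s ∈ H) (hH' : gr ht' s ∈ H) :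
    ∃ u ∈ H, u ∈ UU α ∧ cj u (α * β) = α' * β' ∧ cj u (β * α) = β' * α' := by
  obtain ⟨u, h3, h4, e⟩ := reg hs ht (fun u hu => mul_mem (mul_mem hH hu) (inv_mem hH)) (mul_mem hH' (inv_mem hH))
    (gr_mul_inv ht ht' s h1 h2)
  rw [gr_cj] at e
  refine ⟨u, h3, h4, ?_⟩
  rw [cj_mul, cj_mul]
  exact proj_eq hs _ _ e.symm

/-- roots opposite to `υ` are conjugate under the unipotent radical. -/
lemma exists_opp_conj (hk : Big k) (ht : Trip χ υ) (hχ : Qd G χ) (hυ : Qd G υ) (hδ : Qd G δ) (h : υ * δ * υ ≠ 0)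
    (hG : H ≤ G) (h1 : RG G χ ≤ H) (h2 : RG G υ ≤ H) (h3 : RG G δ ≤ H) :
    ∃ u ∈ H, u ∈ UU υ ∧ ∃ χ' ∈ RS G χ, δ = cj u χ' := by
  obtain ⟨a, ha0, ha⟩ := hk.ex
  obtain ⟨υ', h4, h5, ht'⟩ := exists_trip hk hδ hυ (opp_symm hk hυ hδ h)
  obtain ⟨u, h6, h7, e1, e2⟩ := exists_trans (s := Units.mk0 a ha0) ha ht.symm ht'.symm (hυ.range_eq h4 h5)
    (hυ.ker_eq h4 h5) (sup_le h2 h1 (gr_mem _ _ hυ.toQ0.mem_RS hχ.toQ0.mem_RS))
    (sup_le h2 h3 (gr_mem _ _ h4 hδ.toQ0.mem_RS))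
  refine ⟨u, h6, h7, cj u⁻¹ δ, mem_RS ht.aa (hδ.toQ0.conj (inv_mem (hG h6))) ?_ ?_, (cj_cj_inv _ _).symm⟩
  · rw [← ht'.aba, cj_mul, ← e2, cj_inv_cj, mul_assoc]; exact range_mul_le _ _
  · rw [← ht'.aba, mul_assoc, cj_mul, ← e1, cj_inv_cj, ← mul_assoc]; exact ker_le_mul _ _

lemma mem_norm_inf (hα : Qd G α) (hH : g ∈ Subgroup.normalizer (H : Set (End k M)ˣ)) (h : cj g α ∈ RS G α) :
    g ∈ Subgroup.normalizer ((H ⊓ UU α : Subgroup (End k M)ˣ) : Set (End k M)ˣ) :=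
  mem_normalizer_of_conj_le (conj_le_iff.2 fun u hu => ⟨(Subgroup.mem_normalizer_iff.1 hH u).1 hu.1,
    norm_UU (hα.range_eq h (cj_eq_zero.not.2 hα.ne)) (hα.ker_eq h (cj_eq_zero.not.2 hα.ne)) hu.2⟩)

include hp in
/-- a `p'`-group normalising a root group fixes an opposite grading. -/
theorem exists_fixed_partner [CharP k p] (h3 : 3 ≤ p) (hk : Big k) (hI : HypI G) (hα : Qd G α) (hD : D ≤ G)
    (hc : (Nat.card D).Coprime p) (h : ∀ d ∈ D, cj d α ∈ RS G α) :
    ∃ β, Qd G β ∧ Trip α β ∧ ∀ d ∈ D, Z0 α β d := by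
  obtain ⟨a, ha0, ha⟩ := hk.ex
  have hs : ((Units.mk0 a ha0 : kˣ) : k) ^ 2 ≠ 1 := ha
  obtain ⟨β, hβ, ht⟩ := exists_trip' hk hI hα
  have hP : IsPGroup p ↥(G ⊓ UU α) := (isPGroup_UU h3).to_le inf_le_right
  have hg := repK_mem_G ht hα.toQ0 hβ.toQ0 (dR (Units.mk0 a ha0))
  obtain ⟨n, hn, e⟩ := Coprime.exists_conj_mem_of_subset_mul (B := D) (N := G ⊓ UU α)
    (S := Subgroup.centralizer {gr ht (Units.mk0 a ha0)})
    (fun d hd => mem_norm_inf hα (Subgroup.le_normalizer (hD hd)) (h d hd))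
    (Core.coprime_card_of_isPGroup hP hc).symm (Or.inr (by have := hP.isNilpotent; infer_instance)) (fun d hd => by
      have h0 : cj d α ≠ 0 := cj_eq_zero.not.2 hα.ne
      obtain ⟨u, h1, h2, e⟩ := reg hs ht (fun u hu => mul_mem (mul_mem hg hu) (inv_mem hg))
        (g := d * gr ht _ * d⁻¹) (mul_mem (mul_mem (mul_mem (hD hd) hg) (inv_mem (hD hd))) (inv_mem hg))
        (by rw [gr_cj]; exact gr_mul_inv ht _ _ (hα.range_eq (h d hd) h0) (hα.ker_eq (h d hd) h0))
      refine ⟨u⁻¹, inv_mem ⟨h1, h2⟩, Subgroup.mem_centralizer_singleton_iff.2 ?_⟩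
      calc _ = u⁻¹ * (d * gr ht (Units.mk0 a ha0) * d⁻¹) * d := by group
        _ = _ := by rw [e]; group)
  have ht' := Trip.cj ht n
  have e1 := cj_UU hn.2
  refine ⟨cj n β, hβ.conj hn.1, e1 ▸ ht', fun d hd => ?_⟩
  have : Z0 (cj n α) (cj n β) d := by
    rw [z0_unit_iff hs ht', ← gr_cj ht]
    have := Subgroup.mem_centralizer_singleton_iff.1 (e d hd)
    calc _ = n * (n⁻¹ * d * n * gr ht (Units.mk0 a ha0)) * n⁻¹ * d⁻¹ := by group
      _ = _ := by rw [this]; group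
  rwa [e1] at this

end Cfsg.Lib.EQ
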